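import Mathlib

/-!
# Transitive groups of degree 22 with self-normalising Sylow `3`-subgroups as point stabilisers

The set-up for the proof that no finite group has exactly 22 Sylow `3`-subgroups.
-/

set_option autoImplicit false
set_option linter.unusedSectionVars false

namespace Cfsg.Lib.TwentyTwo

open Equiv MulAction
open scoped Pointwise

variable {Ω : Type*} [Fintype Ω] [DecidableEq Ω]

/-- The configuration: `P a` is the Sylow `3`-subgroup of the stabiliser of `a`, normal in it,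
fixing only `a`. -/
structure Conf (Ω : Type*) [Fintype Ω] where
  H : Subgroup (Perm Ω)
  P : Ω → Subgroup (Perm Ω)
  card_eq : Fintype.card Ω = 22
  trans : ∀ a b : Ω, ∃ g ∈ H, g a = b
  le : ∀ a, P a ≤ H
  fix_self : ∀ a, ∀ x ∈ P a, x a = a
  conj_mem : ∀ g ∈ H, ∀ a x, x ∈ P a → g * x * g⁻¹ ∈ P (g a)
  pgroup : ∀ a, IsPGroup 3 (P a)
  mem_of : ∀ a, ∀ x ∈ H, x a = a → (∃ k : ℕ, x ^ 3 ^ k = 1) → x ∈ P a
  only : ∀ a b, (∀ x ∈ P a, x b = b) → b = a

variable (C : Conf Ω)
include C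

theorem card_univ' : (Finset.univ : Finset Ω).card = 22 := C.card_eq

theorem nat_card : Nat.card Ω = 22 := Nat.card_eq_fintype_card.trans C.card_eq

theorem exists_ne (a : Ω) : ∃ b, b ≠ a := by
  haveI : Nontrivial Ω := Fintype.one_lt_card_iff_nontrivial.mp (by rw [C.card_eq]; norm_num)
  exact _root_.exists_ne a

theorem P_ne_bot (a : Ω) : C.P a ≠ ⊥ := by
  intro h
  obtain ⟨b, hb⟩ := exists_ne C a
  exact hb (C.only a b fun x hx => by rw [h, Subgroup.mem_bot] at hx; rw [hx]; rfl)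

theorem mem_P_smul_iff {g : Perm Ω} (hg : g ∈ C.H) (a : Ω) (x : Perm Ω) :
    x ∈ C.P (g a) ↔ g⁻¹ * x * g ∈ C.P a := by
  constructor
  · intro hx
    have := C.conj_mem g⁻¹ (C.H.inv_mem hg) (g a) x hx
    rwa [inv_inv, show g⁻¹ (g a) = a by simp] at this
  · intro hx
    have := C.conj_mem g hg a _ hx
    rwa [show g * (g⁻¹ * x * g) * g⁻¹ = x by group] at this

theorem P_smul {g : Perm Ω} (hg : g ∈ C.H) (a : Ω) :
    C.P (g a) = (C.P a).map (MulAut.conj g).toMonoidHom := by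
  ext x
  rw [mem_P_smul_iff C hg a x, Subgroup.mem_map]
  constructor
  · exact fun h => ⟨_, h, by simp [MulAut.conj_apply]; group⟩
  · rintro ⟨y, hy, rfl⟩
    simpa [MulAut.conj_apply, mul_assoc] using hy

theorem card_P (a b : Ω) : Nat.card (C.P a) = Nat.card (C.P b) := by
  obtain ⟨g, hg, rfl⟩ := C.trans a b
  rw [P_smul C hg a]
  exact (Nat.card_congr ((C.P a).equivMapOfInjective _ (MulAut.conj g).injective).toEquiv)

/-- A subgroup stable under conjugation by elements of `H`, with a fixed point, is trivial. -/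
theorem eq_bot_of_fixed {D : Subgroup (Perm Ω)} {a : Ω} (hfix : ∀ x ∈ D, x a = a)
    (hnorm : ∀ b, ∃ g : Perm Ω, g a = b ∧ ∀ x, x ∈ D → g⁻¹ * x * g ∈ D) : D = ⊥ := by
  rw [Subgroup.eq_bot_iff_forall]
  intro x hx
  ext b
  obtain ⟨g, rfl, hg⟩ := hnorm b
  have := hfix _ (hg x hx)
  simp only [Perm.coe_mul, Function.comp_apply] at this
  simpa using congrArg g this

theorem mem_inf_iff (a b : Ω) (x : Perm Ω) :
    x ∈ C.P a ⊓ C.P b ↔ x ∈ C.P a ∧ x b = b := by
  constructor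
  · exact fun h => ⟨h.1, C.fix_self b x h.2⟩
  · rintro ⟨h1, h2⟩
    obtain ⟨k, hk⟩ := C.pgroup a ⟨x, h1⟩
    exact ⟨h1, C.mem_of b x (C.le a h1) h2 ⟨k, by simpa using congrArg Subtype.val hk⟩⟩

theorem inf_smul {g : Perm Ω} (hg : g ∈ C.H) (a b : Ω) :
    C.P (g a) ⊓ C.P (g b) = (C.P a ⊓ C.P b).map (MulAut.conj g).toMonoidHom := by
  rw [P_smul C hg, P_smul C hg, Subgroup.map_inf _ _ _ (MulAut.conj g).injective]

/-- An invariant set of a `P a` that misses `a` has size divisible by three. -/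
theorem three_dvd_card (a : Ω) (T : Finset Ω) (ha : a ∉ T) (hT : ∀ x ∈ C.P a, ∀ b ∈ T, x b ∈ T) :
    3 ∣ T.card := by
  haveI := Fact.mk Nat.prime_three
  let S : SubMulAction (C.P a) Ω :=
    { carrier := T
      smul_mem' := fun x b hb => hT x x.2 b hb }
  have h := (C.pgroup a).card_modEq_card_fixedPoints S
  have h0 : Nat.card (fixedPoints (C.P a) S) = 0 := by
    rw [Nat.card_eq_zero]
    left
    refine ⟨fun ⟨⟨b, hb⟩, hfix⟩ => ?_⟩
    have : b = a := C.only a b fun x hx => congrArg Subtype.val (hfix ⟨x, hx⟩)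
    exact ha (this ▸ hb)
  rw [h0, show Nat.card S = T.card from (Nat.card_eq_finsetCard T)] at h
  exact Nat.modEq_zero_iff_dvd.mp h

theorem preprimitive : IsPreprimitive C.H Ω := by
  haveI : IsPretransitive C.H Ω := ⟨fun a b => by
    obtain ⟨g, hg, h⟩ := C.trans a b
    exact ⟨⟨g, hg⟩, h⟩⟩
  refine { isTrivialBlock_of_isBlock := ?_ }
  intro B hB
  rcases B.eq_empty_or_nonempty with rfl | ⟨a, ha⟩
  · exact Or.inl Set.subsingleton_empty
  classical
  have hPB : ∀ x ∈ C.P a, ∀ b ∈ B, x b ∈ B := by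
    intro x hx b hb
    have he : (⟨x, C.le a hx⟩ : C.H) • B = B := by
      rcases hB.smul_eq_or_disjoint ⟨x, C.le a hx⟩ with h | h
      · exact h
      · exact absurd ha (Set.disjoint_left.mp h ⟨a, ha, C.fix_self a x hx⟩)
    rw [← he]
    exact ⟨b, hb, rfl⟩
  have h3 := three_dvd_card C a (B.toFinset.erase a) (Finset.notMem_erase a _) (fun x hx b hb => by
    rw [Finset.mem_erase, Set.mem_toFinset] at hb ⊢
    refine ⟨fun h => hb.1 (x.injective (h.trans (C.fix_self a x hx).symm)), hPB x hx b hb.2⟩)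
  have hdvd := hB.ncard_dvd_card ⟨a, ha⟩
  rw [nat_card C, Set.ncard_eq_toFinset_card'] at hdvd
  rw [Finset.card_erase_of_mem (Set.mem_toFinset.mpr ha)] at h3
  have hle := Nat.le_of_dvd (by norm_num) hdvd
  have hpos : 0 < B.toFinset.card := Finset.card_pos.mpr ⟨a, Set.mem_toFinset.mpr ha⟩
  generalize hn : B.toFinset.card = n at h3 hdvd hle hpos
  have : n = 1 ∨ n = 22 := by
    interval_cases n <;> first | omega | (revert hdvd; norm_num)
  rcases this with rfl | rfl
  · left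
    intro x hx y hy
    exact Finset.card_le_one.mp hn.le x (Set.mem_toFinset.mpr hx) y (Set.mem_toFinset.mpr hy)
  · right
    exact Set.toFinset_eq_univ.mp (Finset.card_eq_iff_eq_univ _ |>.mp (hn.trans C.card_eq.symm))

theorem transitive_normal {N : Subgroup (Perm Ω)} (hN : N ≤ C.H)
    (hnorm : ∀ g ∈ C.H, ∀ x ∈ N, g * x * g⁻¹ ∈ N) (hne : N ≠ ⊥) : ∀ a b : Ω, ∃ g ∈ N, g a = b := by
  haveI := preprimitive C
  haveI : (N.subgroupOf C.H).Normal := ⟨fun x hx g => hnorm g g.2 x hx⟩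
  have hfix : fixedPoints (N.subgroupOf C.H) Ω ≠ Set.univ := by
    obtain ⟨x, hx, hx1⟩ := N.bot_or_exists_ne_one.resolve_left hne
    intro h
    refine hx1 (Equiv.ext fun b => ?_)
    have := (Set.eq_univ_iff_forall.mp h b) ⟨⟨x, hN hx⟩, hx⟩
    exact this
  intro a b
  obtain ⟨g, hg⟩ := (IsQuasiPreprimitive.isPretransitive_of_normal (N := N.subgroupOf C.H) hfix).exists_smul_eq a b
  exact ⟨_, g.2, hg⟩

/-- Passing to the even part. -/
theorem exists_even : ∃ C' : Conf Ω, ∀ g ∈ C'.H, Perm.sign g = 1 := by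
  have heven : ∀ a, ∀ x ∈ C.P a, x ∈ alternatingGroup Ω := by
    intro a x hx
    obtain ⟨k, hk⟩ := C.pgroup a ⟨x, hx⟩
    have hk' : x ^ 3 ^ k = 1 := by simpa using congrArg Subtype.val hk
    rw [Perm.mem_alternatingGroup]
    have h := congrArg Perm.sign hk'
    rw [map_pow, map_one] at h
    rcases Int.units_eq_one_or (Perm.sign x) with h1 | h1
    · exact h1
    · rw [h1, Odd.neg_one_pow (Odd.pow (by decide))] at h
      exact absurd h (by decide)
  refine ⟨{ C with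
    H := C.H ⊓ alternatingGroup Ω
    trans := ?_
    le := fun a x hx => ⟨C.le a hx, heven a x hx⟩
    conj_mem := fun g hg => C.conj_mem g hg.1
    mem_of := fun a x hx => C.mem_of a x hx.1 }, fun g hg => Perm.mem_alternatingGroup.mp hg.2⟩
  refine transitive_normal C inf_le_left (fun g hg x hx => ⟨C.H.mul_mem (C.H.mul_mem hg hx.1) (C.H.inv_mem hg),
    (inferInstance : (alternatingGroup Ω).Normal).conj_mem x hx.2 g⟩) ?_
  intro h
  obtain ⟨a⟩ : Nonempty Ω := Fintype.card_pos_iff.mp (by rw [C.card_eq]; norm_num)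
  refine P_ne_bot C a (eq_bot_iff.mpr fun x hx => ?_)
  rw [← h]
  exact ⟨C.le a hx, heven a x hx⟩

/-- The stabiliser. -/
def stab (a : Ω) : Subgroup (Perm Ω) := C.H ⊓ MulAction.stabilizer (Perm Ω) a

theorem mem_stab {a : Ω} {g : Perm Ω} : g ∈ stab C a ↔ g ∈ C.H ∧ g a = a := Iff.rfl

theorem P_le_stab (a : Ω) : C.P a ≤ stab C a := fun _ hx => ⟨C.le a hx, C.fix_self a _ hx⟩

theorem conj_mem_P {a : Ω} {g x : Perm Ω} (hg : g ∈ stab C a) (hx : x ∈ C.P a) :
    g * x * g⁻¹ ∈ C.P a := by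
  have := C.conj_mem g hg.1 a x hx
  rwa [show g a = a from hg.2] at this

theorem card_H (a : Ω) : Nat.card C.H = 22 * Nat.card (stab C a) := by
  classical
  have h := MulAction.card_orbit_mul_card_stabilizer_eq_card_group C.H a
  rw [← Nat.card_eq_fintype_card, ← Nat.card_eq_fintype_card, ← Nat.card_eq_fintype_card] at h
  have ho : MulAction.orbit C.H a = Set.univ := Set.eq_univ_of_forall fun b => by
    obtain ⟨g, hg, hb⟩ := C.trans a b
    exact ⟨⟨g, hg⟩, hb⟩
  rw [ho, Nat.card_univ, nat_card C] at h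
  rw [← h]
  refine congrArg (22 * ·) (Nat.card_congr ?_)
  exact { toFun := fun g => ⟨g.1.1, g.1.2, g.2⟩, invFun := fun g => ⟨⟨g.1, g.2.1⟩, g.2.2⟩ }

/-- The orbital through `(a₀, b₀)`. -/
def arc (a₀ b₀ a b : Ω) : Prop := ∃ g ∈ C.H, g a₀ = a ∧ g b₀ = b

variable {C}

theorem arc_refl (a b : Ω) : arc C a b a b := ⟨1, C.H.one_mem, rfl, rfl⟩

theorem arc_smul {a₀ b₀ a b : Ω} (h : arc C a₀ b₀ a b) {g : Perm Ω} (hg : g ∈ C.H) :
    arc C a₀ b₀ (g a) (g b) := by
  obtain ⟨k, hk, rfl, rfl⟩ := h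
  exact ⟨g * k, C.H.mul_mem hg hk, rfl, rfl⟩

theorem arc_ne {a₀ b₀ a b : Ω} (hne : a₀ ≠ b₀) (h : arc C a₀ b₀ a b) : a ≠ b := by
  obtain ⟨k, -, rfl, rfl⟩ := h
  exact fun e => hne (k.injective e)

theorem arc_trans {a₀ b₀ a b c d : Ω} (h : arc C a₀ b₀ a b) (h' : arc C a b c d) : arc C a₀ b₀ c d := by
  obtain ⟨k, hk, rfl, rfl⟩ := h'
  exact arc_smul h hk

theorem arc_symm {a₀ b₀ a b : Ω} (h : arc C a₀ b₀ a b) : arc C a b a₀ b₀ := by
  obtain ⟨k, hk, rfl, rfl⟩ := h
  exact ⟨k⁻¹, C.H.inv_mem hk, by simp, by simp⟩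

variable (C)

open Classical in
/-- The successors of `a` in the orbital. -/
noncomputable def outSet (a₀ b₀ a : Ω) : Finset Ω := Finset.univ.filter fun b => arc C a₀ b₀ a b

open Classical in
/-- The predecessors of `b` in the orbital. -/
noncomputable def inSet (a₀ b₀ b : Ω) : Finset Ω := Finset.univ.filter fun a => arc C a₀ b₀ a b

theorem mem_outSet {a₀ b₀ a b : Ω} : b ∈ outSet C a₀ b₀ a ↔ arc C a₀ b₀ a b := by simp [outSet]

theorem mem_inSet {a₀ b₀ a b : Ω} : a ∈ inSet C a₀ b₀ b ↔ arc C a₀ b₀ a b := by simp [inSet]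

theorem outSet_smul {g : Perm Ω} (hg : g ∈ C.H) (a₀ b₀ a : Ω) :
    outSet C a₀ b₀ (g a) = (outSet C a₀ b₀ a).image g := by
  ext b
  rw [mem_outSet, Finset.mem_image]
  constructor
  · intro h
    refine ⟨g⁻¹ b, ?_, by simp⟩
    have := arc_smul h (C.H.inv_mem hg)
    rw [mem_outSet]
    simpa using this
  · rintro ⟨c, hc, rfl⟩
    exact arc_smul ((mem_outSet C).mp hc) hg

theorem inSet_smul {g : Perm Ω} (hg : g ∈ C.H) (a₀ b₀ b : Ω) :
    inSet C a₀ b₀ (g b) = (inSet C a₀ b₀ b).image g := by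
  ext a
  rw [mem_inSet, Finset.mem_image]
  constructor
  · intro h
    refine ⟨g⁻¹ a, ?_, by simp⟩
    have := arc_smul h (C.H.inv_mem hg)
    rw [mem_inSet]
    simpa using this
  · rintro ⟨c, hc, rfl⟩
    exact arc_smul ((mem_inSet C).mp hc) hg

theorem card_outSet (a₀ b₀ a a' : Ω) : (outSet C a₀ b₀ a').card = (outSet C a₀ b₀ a).card := by
  obtain ⟨g, hg, rfl⟩ := C.trans a a'
  rw [outSet_smul C hg, Finset.card_image_of_injective _ g.injective]

theorem card_inSet_eq (a₀ b₀ a b : Ω) : (inSet C a₀ b₀ b).card = (outSet C a₀ b₀ a).card := by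
  classical
  have hin : ∀ b', (inSet C a₀ b₀ b').card = (inSet C a₀ b₀ b).card := by
    intro b'
    obtain ⟨g, hg, rfl⟩ := C.trans b b'
    rw [inSet_smul C hg, Finset.card_image_of_injective _ g.injective]
  have h := Finset.sum_card_bipartiteAbove_eq_sum_card_bipartiteBelow
    (s := (Finset.univ : Finset Ω)) (t := (Finset.univ : Finset Ω)) (fun x y => arc C a₀ b₀ x y)
  have e1 : ∀ x, (Finset.bipartiteAbove (fun x y => arc C a₀ b₀ x y) Finset.univ x).card =
      (outSet C a₀ b₀ a).card := fun x => by rw [← card_outSet C a₀ b₀ a x]; rfl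
  have e2 : ∀ y, (Finset.bipartiteBelow (fun x y => arc C a₀ b₀ x y) Finset.univ y).card =
      (inSet C a₀ b₀ b).card := fun y => by rw [← hin y]; rfl
  simp only [e1, e2, Finset.sum_const, card_univ' C, smul_eq_mul] at h
  omega

theorem outSet_invariant (a₀ b₀ a : Ω) {g : Perm Ω} (hg : g ∈ stab C a) {b : Ω}
    (hb : b ∈ outSet C a₀ b₀ a) : g b ∈ outSet C a₀ b₀ a := by
  rw [mem_outSet] at hb ⊢
  have := arc_smul hb hg.1
  rwa [show g a = a from hg.2] at this

theorem inSet_invariant (a₀ b₀ b : Ω) {g : Perm Ω} (hg : g ∈ stab C b) {a : Ω}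
    (ha : a ∈ inSet C a₀ b₀ b) : g a ∈ inSet C a₀ b₀ b := by
  rw [mem_inSet] at ha ⊢
  have := arc_smul ha hg.1
  rwa [show g b = b from hg.2] at this

theorem three_dvd_outSet {a₀ b₀ : Ω} (hne : a₀ ≠ b₀) (a : Ω) : 3 ∣ (outSet C a₀ b₀ a).card :=
  three_dvd_card C a _ (fun h => arc_ne hne ((mem_outSet C).mp h) rfl) fun _ hx _ hb =>
    outSet_invariant C a₀ b₀ a (P_le_stab C a hx) hb

/-- A nonempty set closed under the successors of a proper orbital is everything. -/
theorem eq_univ_of_closed {a₀ b₀ : Ω} (hne : a₀ ≠ b₀) {S : Set Ω} {s : Ω} (hs : s ∈ S)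
    (hcl : ∀ a b, arc C a₀ b₀ a b → a ∈ S → b ∈ S) : S = Set.univ := by
  classical
  haveI := preprimitive C
  let R : Ω → Set Ω := fun a => {b | Relation.ReflTransGen (arc C a₀ b₀) a b}
  have hR : ∀ g ∈ C.H, ∀ a, R (g a) = g '' R a := by
    have key : ∀ g ∈ C.H, ∀ a, g '' R a ⊆ R (g a) := by
      rintro g hg a _ ⟨b, hb, rfl⟩
      show Relation.ReflTransGen (arc C a₀ b₀) (g a) (g b)
      induction hb with
      | refl => exact Relation.ReflTransGen.refl
      | tail _ h ih => exact ih.tail (arc_smul h hg)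
    intro g hg a
    refine Set.Subset.antisymm (fun b hb => ?_) (key g hg a)
    refine ⟨g⁻¹ b, ?_, by simp⟩
    have := key g⁻¹ (C.H.inv_mem hg) (g a) ⟨b, hb, rfl⟩
    simpa using this
  have heq : ∀ a b, b ∈ R a → R b = R a := by
    intro a b hb
    obtain ⟨g, hg, rfl⟩ := C.trans a b
    refine Set.eq_of_subset_of_ncard_le (fun c hc => Relation.ReflTransGen.trans hb hc) ?_
    rw [hR g hg a, Set.ncard_image_of_injective _ g.injective]
  have hblock : IsBlock C.H (R s) := by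
    refine isBlock_iff_smul_eq_or_disjoint.mpr fun g => ?_
    have hg : g • R s = R ((g : Perm Ω) s) := (hR g g.2 s).symm
    rw [hg]
    by_cases hd : Disjoint (R ((g : Perm Ω) s)) (R s)
    · exact Or.inr hd
    · obtain ⟨c, hc1, hc2⟩ := Set.not_disjoint_iff.mp hd
      exact Or.inl ((heq _ c hc1).symm.trans (heq _ c hc2))
  have hclR : ∀ b, b ∈ R s → b ∈ S := by
    intro b hb
    induction hb with
    | refl => exact hs
    | tail _ h ih => exact hcl _ _ h ih
  rcases hblock.subsingleton_or_eq_univ with h | h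
  · exfalso
    obtain ⟨g, hg, rfl⟩ := C.trans a₀ s
    exact hne (g.injective (h (Relation.ReflTransGen.refl) (Relation.ReflTransGen.single (arc_smul (arc_refl a₀ b₀) hg))))
  · exact Set.eq_univ_of_forall fun b => hclR b (h ▸ Set.mem_univ b)

end Cfsg.Lib.TwentyTwo
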