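import Cfsg.Agent.Lib.Perm.TwentyTwo.Orbits

/-!
# The group is not doubly transitive
-/

set_option autoImplicit false
set_option linter.unusedSectionVars false

namespace Cfsg.Lib.TwentyTwo

open Equiv MulAction
open scoped Pointwise

variable {Ω : Type*} [Fintype Ω] [DecidableEq Ω] (C : Conf Ω)
include C

theorem inf_eq_bot_of_two_transitive
    (h2 : ∀ a b c d : Ω, a ≠ b → c ≠ d → ∃ g ∈ C.H, g a = c ∧ g b = d) {a b : Ω} (hab : a ≠ b) :
    C.P a ⊓ C.P b = ⊥ := by
  classical
  haveI := Fact.mk Nat.prime_three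
  by_contra hD
  -- the line through two points
  let L : Ω → Ω → Finset Ω := fun a b => (Finset.univ : Finset Ω).filter fun c => ∀ x ∈ C.P a ⊓ C.P b, x c = c
  have hmemL : ∀ a b c, c ∈ L a b ↔ ∀ x ∈ C.P a ⊓ C.P b, x c = c := fun a b c => by simp [L]
  have hcard : ∀ a b c d : Ω, a ≠ b → c ≠ d → Nat.card ↥(C.P a ⊓ C.P b) = Nat.card ↥(C.P c ⊓ C.P d) := by
    intro a b c d hab hcd
    obtain ⟨g, hg, rfl, rfl⟩ := h2 a b c d hab hcd
    rw [inf_smul C hg]
    exact (Nat.card_congr ((C.P a ⊓ C.P b).equivMapOfInjective _ (MulAut.conj g).injective).toEquiv)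
  have hline : ∀ a b c d : Ω, a ≠ b → c ≠ d → c ∈ L a b → d ∈ L a b →
      C.P c ⊓ C.P d = C.P a ⊓ C.P b := by
    intro a b c d hab hcd hc hd
    refine (Subgroup.eq_of_le_of_card_ge ?_ (hcard c d a b hcd hab).le).symm
    intro x hx
    obtain ⟨k, hk⟩ := C.pgroup a ⟨x, hx.1⟩
    have hk' : x ^ 3 ^ k = 1 := by simpa using congrArg Subtype.val hk
    exact ⟨C.mem_of c x (C.le a hx.1) ((hmemL a b c).mp hc x hx) ⟨k, hk'⟩,
      C.mem_of d x (C.le a hx.1) ((hmemL a b d).mp hd x hx) ⟨k, hk'⟩⟩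
  have hLc : ∀ a b c d : Ω, a ≠ b → c ≠ d → (L a b).card = (L c d).card := by
    intro a b c d hab hcd
    obtain ⟨g, hg, rfl, rfl⟩ := h2 a b c d hab hcd
    rw [← Finset.card_image_of_injective (L a b) g.injective]
    refine congrArg Finset.card (Finset.ext fun e => ?_)
    rw [Finset.mem_image, hmemL]
    constructor
    · rintro ⟨e, he, rfl⟩ x hx
      rw [inf_smul C hg] at hx
      obtain ⟨y, hy, rfl⟩ := hx
      simp [(hmemL a b e).mp he y hy]
    · intro h
      refine ⟨g⁻¹ e, (hmemL a b _).mpr fun y hy => ?_, by simp⟩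
      have := h (g * y * g⁻¹) (by rw [inf_smul C hg]; exact ⟨y, hy, rfl⟩)
      simpa using congrArg (g⁻¹ : Perm Ω) this
  have hmod : (L a b).card % 3 = 1 := by
    have hp : IsPGroup 3 ↥(C.P a ⊓ C.P b) := (C.pgroup a).to_le inf_le_left
    have h := hp.card_modEq_card_fixedPoints Ω
    have e : Nat.card (fixedPoints ↥(C.P a ⊓ C.P b) Ω) = (L a b).card := by
      rw [← Nat.card_eq_finsetCard]
      exact Nat.card_congr (Equiv.subtypeEquivRight fun c => by
        rw [hmemL]; exact ⟨fun h x hx => h ⟨x, hx⟩, fun h x => h x x.2⟩)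
    rw [e, nat_card C, Nat.ModEq] at h
    omega
  have hsub : ∀ a b, a ≠ b → a ∈ L a b ∧ b ∈ L a b := fun a b _ =>
    ⟨(hmemL a b a).mpr fun x hx => C.fix_self a x hx.1, (hmemL a b b).mpr fun x hx => C.fix_self b x hx.2⟩
  have hge : 2 ≤ (L a b).card := Finset.one_lt_card.mpr ⟨a, (hsub a b hab).1, b, (hsub a b hab).2, hab⟩
  have hlt : (L a b).card < 22 := by
    by_contra h
    have hu := Finset.eq_univ_of_card (L a b) (le_antisymm (Finset.card_le_univ _) (by rw [C.card_eq]; omega))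
    exact hD ((Subgroup.eq_bot_iff_forall _).mpr fun x hx => Equiv.ext fun c =>
      (hmemL a b c).mp (hu ▸ Finset.mem_univ c) x hx)
  -- lines through `a`
  have hLeq : ∀ a b c d : Ω, a ≠ b → c ≠ d → c ∈ L a b → d ∈ L a b → L c d = L a b := by
    intro a b c d hab hcd hc hd
    simp only [L, hline a b c d hab hcd hc hd]
  have h21 : ((L a b).card - 1) ∣ 21 := by
    have h := Finset.card_eq_sum_card_image (L a) ((Finset.univ : Finset Ω).erase a)
    rw [Finset.sum_congr rfl (g := fun _ => (L a b).card - 1) (fun M hM => ?_), Finset.sum_const, smul_eq_mul,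
      Finset.card_erase_of_mem (Finset.mem_univ a), card_univ' C] at h
    · exact Dvd.intro_left _ h.symm
    · obtain ⟨c, hc, rfl⟩ := Finset.mem_image.mp hM
      have hca : a ≠ c := (Finset.ne_of_mem_erase hc).symm
      rw [hLc a b a c hab hca, ← Finset.card_erase_of_mem (hsub a c hca).1]
      refine congrArg Finset.card (Finset.ext fun d => ?_)
      simp only [Finset.mem_filter, Finset.mem_erase, Finset.mem_univ, and_true]
      refine ⟨fun h => ⟨h.1, h.2 ▸ (hsub a d h.1.symm).2⟩, fun h => ⟨h.1, ?_⟩⟩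
      exact hLeq a c a d hca h.1.symm (hsub a c hca).1 h.2
  have h4 : (L a b).card = 4 := by
    generalize (L a b).card = l at h21 hlt hge hmod
    interval_cases l <;> first | rfl | omega | (revert h21; norm_num)
  -- all pairs
  have h := Finset.card_eq_sum_card_image (fun p : Ω × Ω => L p.1 p.2) (Finset.univ : Finset Ω).offDiag
  rw [Finset.sum_congr rfl (g := fun _ => 12) (fun M hM => ?_), Finset.sum_const, smul_eq_mul,
    Finset.offDiag_card, card_univ' C] at h
  · omega
  · obtain ⟨⟨c, d⟩, hcd, rfl⟩ := Finset.mem_image.mp hM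
    have hcd' : c ≠ d := (Finset.mem_offDiag.mp hcd).2.2
    have h4' : (L c d).card = 4 := (hLc c d a b hcd' hab).trans h4
    rw [show (12 : ℕ) = (L c d).offDiag.card by rw [Finset.offDiag_card, h4']]
    refine congrArg Finset.card (Finset.ext fun ⟨p, q⟩ => ?_)
    simp only [Finset.mem_filter, Finset.mem_offDiag, Finset.mem_univ, true_and]
    constructor
    · rintro ⟨hpq, heq⟩
      exact ⟨heq ▸ (hsub p q hpq).1, heq ▸ (hsub p q hpq).2, hpq⟩
    · rintro ⟨hp, hq, hpq⟩
      exact ⟨hpq, hLeq c d p q hcd' hpq hp hq⟩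

theorem not_two_transitive (heven : ∀ g ∈ C.H, Perm.sign g = 1) {a₀ b₀ : Ω} (hne : a₀ ≠ b₀)
    (hd : (outSet C a₀ b₀ a₀).card = 21) : False := by
  classical
  haveI := Fact.mk Nat.prime_three
  have hall : ∀ a b, a ≠ b → arc C a₀ b₀ a b := by
    intro a b hab
    have hs : outSet C a₀ b₀ a = (Finset.univ : Finset Ω).erase a := by
      refine Finset.eq_of_subset_of_card_le (fun c hc => ?_) ?_
      · exact Finset.mem_erase.mpr ⟨(arc_ne hne ((mem_outSet C).mp hc)).symm, Finset.mem_univ _⟩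
      · rw [Finset.card_erase_of_mem (Finset.mem_univ a), card_univ' C, card_outSet C a₀ b₀ a₀ a, hd]
    exact (mem_outSet C).mp (hs ▸ Finset.mem_erase.mpr ⟨hab.symm, Finset.mem_univ _⟩)
  have h2 : ∀ a b c d : Ω, a ≠ b → c ≠ d → ∃ g ∈ C.H, g a = c ∧ g b = d := fun a b c d hab hcd =>
    arc_trans (arc_symm (hall a b hab)) (hall c d hcd)
  have hbot : ∀ b, b ≠ a₀ → (pOrbit C a₀ b).card = Nat.card (C.P a₀) := by
    intro b hb
    have h := card_pOrbit_mul C a₀ b
    rwa [inf_eq_bot_of_two_transitive C h2 hb.symm, Subgroup.card_bot, mul_one] at h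
  have hP21 : Nat.card (C.P a₀) ∣ 21 := by
    have h := Finset.card_eq_sum_card_image (pOrbit C a₀) ((Finset.univ : Finset Ω).erase a₀)
    rw [Finset.sum_congr rfl (g := fun _ => Nat.card (C.P a₀)) (fun M hM => ?_), Finset.sum_const,
      smul_eq_mul, Finset.card_erase_of_mem (Finset.mem_univ a₀), card_univ' C] at h
    · exact Dvd.intro_left _ h.symm
    · obtain ⟨c, hc, rfl⟩ := Finset.mem_image.mp hM
      rw [← hbot c (Finset.ne_of_mem_erase hc)]
      refine congrArg Finset.card (Finset.ext fun d => ?_)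
      simp only [Finset.mem_filter, Finset.mem_erase, Finset.mem_univ, and_true]
      refine ⟨fun h => h.2 ▸ self_mem_pOrbit C a₀ d, fun h => ⟨?_, pOrbit_eq C h⟩⟩
      obtain ⟨x, hx, rfl⟩ := (mem_pOrbit C).mp h
      exact fun e => Finset.ne_of_mem_erase hc (x.injective (e.trans (C.fix_self a₀ x hx).symm))
  have hP : Nat.card (C.P a₀) = 3 := by
    obtain ⟨k, hk⟩ := IsPGroup.iff_card.mp (C.pgroup a₀)
    rw [hk] at hP21 ⊢
    rcases (show k = 0 ∨ k = 1 ∨ 2 ≤ k by omega) with rfl | rfl | h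
    · exact absurd (Subgroup.card_eq_one.mp (by rw [hk, pow_zero])) (P_ne_bot C a₀)
    · rfl
    · exact absurd ((Nat.pow_dvd_pow 3 h).trans hP21) (by norm_num)
  obtain ⟨M, i, hi, hS, hM, hM7, -⟩ := small_structure C a₀ hP
  have h21 : 21 ∣ Nat.card (stab C a₀) := by
    have h := MulAction.card_orbit_mul_card_stabilizer_eq_card_group (stab C a₀) b₀
    rw [← Nat.card_eq_fintype_card, ← Nat.card_eq_fintype_card, ← Nat.card_eq_fintype_card] at h
    have e : Nat.card (orbit (stab C a₀) b₀) = 21 := by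
      rw [← hd, ← Nat.card_eq_finsetCard]
      refine Nat.card_congr (Equiv.subtypeEquivRight fun c => ?_)
      rw [mem_outSet]
      constructor
      · rintro ⟨g, rfl⟩
        exact ⟨g, g.2.1, g.2.2, rfl⟩
      · rintro ⟨g, hg, hga, hgb⟩
        exact ⟨⟨g, hg, hga⟩, hgb⟩
    rw [e] at h
    exact Dvd.intro _ h
  have h7 : 7 ∣ M := by
    rw [hS] at h21
    have h7' : 7 ∣ 3 * i * M := (show 7 ∣ 21 by norm_num).trans h21
    exact ((Nat.Prime.dvd_mul (by norm_num)).mp h7').resolve_left (by rcases hi with rfl | rfl <;> norm_num)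
  obtain ⟨h16, h35⟩ := hM7 h7
  obtain ⟨e, n, he, he1, hn11, hen, -⟩ := eleven_numbers C heven a₀
  rw [hS] at hen
  have hMle := Nat.le_of_dvd (by norm_num) hM
  obtain ⟨m, rfl⟩ := h7
  have hm80 : m ∣ 80 := Nat.dvd_of_mul_dvd_mul_left (by norm_num) (show 7 * m ∣ 7 * 80 from hM)
  have h5 : ¬ 5 ∣ m := fun h => h35 (show 7 * 5 ∣ 7 * m from Nat.mul_dvd_mul_left 7 h)
  have h16' : ¬ 16 ∣ m := fun h => h16 (h.mul_left 7)
  have hmle := Nat.le_of_dvd (by norm_num) hm80
  have hm8 : m ∣ 8 := by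
    have h1 : Nat.Coprime m 5 := ((Nat.Prime.coprime_iff_not_dvd (by norm_num)).mpr h5).symm
    have h2 : m ∣ 16 := h1.dvd_of_dvd_mul_left (show m ∣ 5 * 16 from hm80)
    obtain ⟨j, hj, rfl⟩ := (Nat.dvd_prime_pow Nat.prime_two).mp (show m ∣ 2 ^ 4 from h2)
    have hj4 : j ≠ 4 := by rintro rfl; exact h16' (by norm_num)
    exact (Nat.pow_dvd_pow 2 (show j ≤ 3 by omega)).trans (by norm_num)
  have := Nat.le_of_dvd (by norm_num) hm8
  have := Nat.le_of_dvd (by norm_num) he
  interval_cases e <;> first | omega | (revert he; norm_num; done) | skip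
  all_goals
    interval_cases m <;> first | (revert hm8; norm_num; done) | (rcases hi with rfl | rfl <;> omega)

end Cfsg.Lib.TwentyTwo
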