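import Cfsg.Agent.Lib.Perm.TwentyTwo.Basic
import Cfsg.Agent.Lib.Fusion.Jordan

/-!
# Sylow `11`-subgroups in the degree 22 configuration
-/

set_option autoImplicit false
set_option linter.unusedSectionVars false

namespace Cfsg.Lib.TwentyTwo

open Equiv MulAction
open scoped Pointwise

variable {Ω : Type*} [Fintype Ω] [DecidableEq Ω] (C : Conf Ω)
include C

theorem not_alternating_le : ¬ alternatingGroup Ω ≤ C.H := by
  intro hA
  obtain ⟨a⟩ : Nonempty Ω := Fintype.card_pos_iff.mp (by rw [C.card_eq]; norm_num)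
  -- two 3-cycles whose product is an involution
  obtain ⟨T, hT, hTc⟩ := Finset.exists_subset_card_eq (s := (Finset.univ : Finset Ω).erase a) (n := 4)
    (by rw [Finset.card_erase_of_mem (Finset.mem_univ a), Finset.card_univ, C.card_eq]; norm_num)
  obtain ⟨b, c, d, e, hbc, hbd, hbe, hcd, hce, hde, rfl⟩ := Finset.card_eq_four.mp hTc
  have hna : b ≠ a ∧ c ≠ a ∧ d ≠ a ∧ e ≠ a := by
    simp only [Finset.insert_subset_iff, Finset.singleton_subset_iff, Finset.mem_erase] at hT
    exact ⟨hT.1.1, hT.2.1.1, hT.2.2.1.1, hT.2.2.2.1⟩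
  have hmem : ∀ x y z : Ω, x ≠ y → y ≠ z → x ≠ z → x ≠ a → y ≠ a → z ≠ a →
      Equiv.swap x y * Equiv.swap y z ∈ C.P a := by
    intro x y z hxy hyz hxz hxa hya hza
    have h3 : (Equiv.swap x y * Equiv.swap y z).IsThreeCycle := by
      rw [Equiv.swap_comm x y]
      exact Equiv.Perm.isThreeCycle_swap_mul_swap_same hxy.symm hyz hxz
    refine C.mem_of a _ (hA h3.mem_alternatingGroup) ?_ ⟨1, ?_⟩
    · simp [Perm.mul_apply, Equiv.swap_apply_of_ne_of_ne hya.symm hza.symm,
        Equiv.swap_apply_of_ne_of_ne hxa.symm hya.symm]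
    · rw [pow_one, ← h3.orderOf]
      exact pow_orderOf_eq_one _
  have h1 := hmem b c d hbc hcd hbd hna.1 hna.2.1 hna.2.2.1
  -- now a product of two disjoint transpositions
  have h5 : (Equiv.swap b c * Equiv.swap c d) * (Equiv.swap c d * Equiv.swap d e) ∈ C.P a :=
    (C.P a).mul_mem h1 (hmem c d e hcd hde hce hna.2.1 hna.2.2.1 hna.2.2.2)
  rw [mul_assoc (Equiv.swap b c), ← mul_assoc (Equiv.swap c d) (Equiv.swap c d), Equiv.swap_mul_self,
    one_mul] at h5
  obtain ⟨k, hk⟩ := C.pgroup a ⟨_, h5⟩
  have hk' : (Equiv.swap b c * Equiv.swap d e) ^ 3 ^ k = 1 := by simpa using congrArg Subtype.val hk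
  have hcomm : Commute (Equiv.swap b c) (Equiv.swap d e) :=
    Equiv.Perm.Disjoint.commute (fun x => by
      by_cases h : x = b ∨ x = c
      · right; rcases h with rfl | rfl
        · exact Equiv.swap_apply_of_ne_of_ne hbd hbe
        · exact Equiv.swap_apply_of_ne_of_ne hcd hce
      · push Not at h
        exact Or.inl (Equiv.swap_apply_of_ne_of_ne h.1 h.2))
  obtain ⟨l, hl⟩ : Odd (3 ^ k) := Odd.pow (by decide)
  rw [hcomm.mul_pow, hl, pow_succ, pow_succ, pow_mul, pow_mul, sq, sq, Equiv.swap_mul_self,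
    Equiv.swap_mul_self, one_pow, one_mul, one_mul] at hk'
  have hb := congrArg (fun f : Perm Ω => f b) hk'
  simp [Perm.mul_apply, Equiv.swap_apply_of_ne_of_ne hbd hbe, hbc.symm] at hb

theorem no_fix_eleven {y : Perm Ω} (hy : y ∈ C.H) (ho : y ^ 11 = 1) {a : Ω} (ha : y a = a) : y = 1 := by
  by_contra hne
  haveI : Fact (Nat.Prime 11) := ⟨by norm_num⟩
  have hord : orderOf y = 11 := orderOf_eq_prime ho hne
  have hs : 11 ∣ y.support.card := by
    have hall : ∀ n ∈ y.cycleType, n = 11 := fun n hn => by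
      have h1 := Perm.two_le_of_mem_cycleType hn
      have h2 := Perm.dvd_of_mem_cycleType hn
      rw [hord] at h2
      rcases (Nat.dvd_prime (by norm_num)).mp h2 with h | h <;> omega
    rw [← Perm.sum_cycleType]
    exact Multiset.dvd_sum fun n hn => (hall n hn).symm.dvd
  have hlt : y.support.card < 22 := by
    rw [← C.card_eq, ← Finset.card_univ]
    exact Finset.card_lt_card (Finset.ssubset_univ_iff.mpr fun h => by
      have := Finset.eq_univ_iff_forall.mp h a
      rw [Perm.mem_support] at this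
      exact this ha)
  have hpos : 0 < y.support.card := lt_trans one_pos (Perm.one_lt_card_support_of_ne_one hne)
  have h11 : y.support.card = 11 := by omega
  have hcy : y.IsCycle := by
    refine Perm.isCycle_of_prime_order (hord ▸ by norm_num) ?_
    rw [hord, h11]; norm_num
  exact not_alternating_le C (Cfsg.Lib.Fusion.alternatingGroup_le_of_prime_cycle (preprimitive C)
    (p := 11) (by norm_num) (by rw [C.card_eq]; norm_num) hcy h11 hy)

theorem dvd_card_normal (N : Subgroup C.H) [N.Normal] (hne : N ≠ ⊥) : 22 ∣ Nat.card N := by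
  classical
  have ht := transitive_normal C (N := N.map C.H.subtype) (Subgroup.map_subtype_le N) (by
    rintro g hg _ ⟨x, hx, rfl⟩
    exact ⟨⟨g, hg⟩ * x * ⟨g, hg⟩⁻¹, (inferInstance : N.Normal).conj_mem x hx _, rfl⟩) (by
    rwa [Ne, Subgroup.map_eq_bot_iff_of_injective _ C.H.subtype_injective])
  obtain ⟨a⟩ : Nonempty Ω := Fintype.card_pos_iff.mp (by rw [C.card_eq]; norm_num)
  have h := MulAction.card_orbit_mul_card_stabilizer_eq_card_group N a
  rw [← Nat.card_eq_fintype_card, ← Nat.card_eq_fintype_card, ← Nat.card_eq_fintype_card] at h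
  have ho : MulAction.orbit N a = Set.univ := Set.eq_univ_of_forall fun b => by
    obtain ⟨g, ⟨x, hx, rfl⟩, hb⟩ := ht a b
    exact ⟨⟨x, hx⟩, hb⟩
  rw [ho, Nat.card_univ, nat_card C] at h
  exact Dvd.intro _ h

theorem card_sylow_eleven (Q : Sylow 11 C.H) : Nat.card Q = 11 := by
  classical
  haveI : Fact (Nat.Prime 11) := ⟨by norm_num⟩
  obtain ⟨a⟩ : Nonempty Ω := Fintype.card_pos_iff.mp (by rw [C.card_eq]; norm_num)
  obtain ⟨k, hk⟩ := IsPGroup.iff_card.mp Q.2
  have hk1 : k ≠ 0 := by
    rintro rfl
    have h := Q.not_dvd_index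
    have h2 := Subgroup.card_mul_index (Q : Subgroup C.H)
    rw [hk, pow_zero, one_mul] at h2
    exact h (h2 ▸ ⟨2 * Nat.card (stab C a), by rw [card_H C a]; ring⟩)
  have hle : Nat.card Q ≤ 22 := by
    rw [← nat_card C]
    refine Nat.card_le_card_of_injective (fun x : Q => ((x : C.H) : Perm Ω) a) fun x y hxy => ?_
    obtain ⟨j, hj⟩ := Q.2 (y⁻¹ * x)
    by_contra hne
    -- a power of order eleven still fixes the point
    have hfix : ((y⁻¹ * x : Q) : C.H).1 a = a := by
      simp only [Subgroup.coe_mul, InvMemClass.coe_inv, Perm.mul_apply]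
      simp only at hxy
      rw [hxy]; simp
    set z : Perm Ω := ((y⁻¹ * x : Q) : C.H).1 with hz
    have hzH : z ∈ C.H := ((y⁻¹ * x : Q) : C.H).2
    have hz1 : z ≠ 1 := fun h => hne (by
      have : y⁻¹ * x = 1 := Subtype.ext (Subtype.ext h)
      exact (inv_mul_eq_one.mp this).symm)
    have hpow : z ^ 11 ^ j = 1 := by
      simpa [hz] using congrArg (fun u : Q => ((u : C.H) : Perm Ω)) hj
    obtain ⟨i, -, hi⟩ := (Nat.dvd_prime_pow (by norm_num : Nat.Prime 11)).mp (orderOf_dvd_of_pow_eq_one hpow)
    have hi1 : i ≠ 0 := by rintro rfl; exact hz1 (orderOf_eq_one_iff.mp (by simpa using hi))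
    have hw : (z ^ 11 ^ (i - 1)) ^ 11 = 1 := by
      rw [← pow_mul, ← pow_succ, Nat.sub_add_cancel (Nat.one_le_iff_ne_zero.mpr hi1), ← hi]
      exact pow_orderOf_eq_one z
    have hw1 : z ^ 11 ^ (i - 1) ≠ 1 := fun h => by
      have := Nat.le_of_dvd (by positivity) (orderOf_dvd_of_pow_eq_one h)
      rw [hi] at this
      exact absurd ((Nat.pow_le_pow_iff_right (by norm_num)).mp this) (by omega)
    refine hw1 (no_fix_eleven C (C.H.pow_mem hzH _) hw ?_ (a := a))
    exact Equiv.Perm.pow_apply_eq_self_of_apply_eq_self hfix _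
  rcases (show k = 1 ∨ 2 ≤ k by omega) with rfl | h2
  · rw [hk, pow_one]
  · have := Nat.pow_le_pow_right (show 0 < 11 by norm_num) h2
    omega

variable (heven : ∀ g ∈ C.H, Perm.sign g = 1)
include heven

theorem centralizer_eleven (Q : Sylow 11 C.H) :
    Subgroup.centralizer ((Q : Subgroup C.H) : Set C.H) = (Q : Subgroup C.H) := by
  classical
  haveI : Fact (Nat.Prime 11) := ⟨by norm_num⟩
  have hc := card_sylow_eleven C Q
  haveI hcyc : IsCyclic Q := isCyclic_of_prime_card hc
  refine le_antisymm ?_ (fun x hx => Subgroup.mem_centralizer_iff.mpr fun y hy => by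
    letI := hcyc.commGroup
    exact congrArg Subtype.val (mul_comm (⟨y, hy⟩ : Q) ⟨x, hx⟩))
  intro s hs
  obtain ⟨⟨q, hqQ⟩, hgen⟩ := hcyc.exists_generator
  have hq11 : q ^ 11 = 1 := by
    have h := pow_card_eq_one' (G := (Q : Subgroup C.H)) (x := ⟨q, hqQ⟩)
    rw [show Nat.card (Q : Subgroup C.H) = 11 from hc] at h
    exact congrArg Subtype.val h
  have hq1 : q ≠ 1 := by
    intro h
    have hb : (Q : Subgroup C.H) = ⊥ := by
      rw [Subgroup.eq_bot_iff_forall]
      intro x hx
      obtain ⟨i, hi⟩ := hgen ⟨x, hx⟩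
      have := congrArg Subtype.val hi
      simp [h] at this
      exact this.symm
    rw [hb, Subgroup.card_bot] at hc
    omega
  set p : Perm Ω := (q : Perm Ω) with hp
  have hp11 : p ^ 11 = 1 := congrArg Subtype.val hq11
  have hp1 : p ≠ 1 := fun h => hq1 (Subtype.ext h)
  have hpfree : ∀ (i : ℕ) (b : Ω), (p ^ i) b = b → p ^ i = 1 := fun i b hb =>
    no_fix_eleven C (C.H.pow_mem q.2 i) (by rw [← pow_mul, mul_comm, pow_mul, hp11, one_pow]) hb
  have hord : orderOf p = 11 := orderOf_eq_prime hp11 hp1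
  -- centralising elements of order eleven lie in the Sylow subgroup
  have hmem : ∀ y : C.H, y * q = q * y → y ^ 11 = 1 → y ∈ (Q : Subgroup C.H) := by
    intro y hy hy11
    have hle : Subgroup.zpowers y ≤ Subgroup.normalizer ((Q : Subgroup C.H) : Set C.H) := by
      rw [Subgroup.zpowers_le, Subgroup.mem_normalizer_iff]
      have hcomm : ∀ x ∈ (Q : Subgroup C.H), y * x * y⁻¹ = x := by
        intro x hx
        obtain ⟨i, hi⟩ := hgen ⟨x, hx⟩
        have hx' : q ^ i = x := by simpa using congrArg Subtype.val hi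
        rw [← hx', ((show Commute y q from hy).zpow_right i).eq, mul_inv_cancel_right]
      intro x
      refine ⟨fun hx => by rwa [hcomm x hx], fun hx => ?_⟩
      have h2 := hcomm _ hx
      have h3 : y * x * y⁻¹ = x := by
        have := congrArg (fun u => y⁻¹ * u * y) h2
        simpa [mul_assoc] using this
      rwa [h3] at hx
    have hp' : IsPGroup 11 (Subgroup.zpowers y) := IsPGroup.of_card (n := if y = 1 then 0 else 1) (by
      rw [Nat.card_zpowers]
      split_ifs with h
      · simp [h]
      · rw [pow_one]; exact orderOf_eq_prime hy11 h)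
    have := hp'.inf_normalizer_sylow Q
    exact (this.le ⟨Subgroup.mem_zpowers y, hle (Subgroup.mem_zpowers y)⟩).2
  have hsq : s * q = q * s := (Subgroup.mem_centralizer_iff.mp hs q hqQ).symm
  set σ : Perm Ω := (s : Perm Ω) with hσ
  have hσp : Commute σ p := congrArg Subtype.val hsq
  obtain ⟨a⟩ : Nonempty Ω := Fintype.card_pos_iff.mp (by rw [C.card_eq]; norm_num)
  -- the two orbits
  let O : Ω → Finset Ω := fun b => (Finset.range 11).image fun i => (p ^ i) b
  have hOc : ∀ b, (O b).card = 11 := by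
    intro b
    rw [Finset.card_image_of_injOn, Finset.card_range]
    intro i hi j hj hij
    have hi' := Finset.mem_range.mp hi
    have hj' := Finset.mem_range.mp hj
    have hpw : p ^ i = p ^ j := by
      rcases le_total i j with h | h
      · have h1 : (p ^ (j - i)) ((p ^ i) b) = (p ^ i) b := by
          rw [← Perm.mul_apply, ← pow_add, Nat.sub_add_cancel h]; exact hij.symm
        have h2 := hpfree _ _ h1
        rw [← Nat.sub_add_cancel h, pow_add, h2, one_mul]
      · have h1 : (p ^ (i - j)) ((p ^ j) b) = (p ^ j) b := by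
          rw [← Perm.mul_apply, ← pow_add, Nat.sub_add_cancel h]; exact hij
        have h2 := hpfree _ _ h1
        rw [← Nat.sub_add_cancel h, pow_add, h2, one_mul]
    exact pow_injOn_Iio_orderOf (x := p) (by rw [hord]; exact hi') (by rw [hord]; exact hj') hpw
  have hpmod : ∀ (i : ℕ) (b : Ω), (p ^ i) b ∈ O b := fun i b =>
    Finset.mem_image.mpr ⟨i % 11, Finset.mem_range.mpr (Nat.mod_lt _ (by norm_num)), by
      conv_rhs => rw [← Nat.div_add_mod i 11, pow_add, pow_mul, hp11, one_pow, one_mul]⟩
  have hfixall : ∀ (τ : C.H), τ * q = q * τ → (∃ b, (τ : Perm Ω) b = b) → τ ∈ (Q : Subgroup C.H) := by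
    intro τ hτ ⟨b, hb⟩
    have hτp : ∀ i : ℕ, Commute (τ : Perm Ω) (p ^ i) := fun i =>
      (show Commute (τ : Perm Ω) p from congrArg Subtype.val hτ).pow_right i
    have hO : ∀ c ∈ O b, (τ : Perm Ω) c = c := by
      intro c hc
      obtain ⟨i, -, rfl⟩ := Finset.mem_image.mp hc
      rw [← Perm.mul_apply, (hτp i).eq, Perm.mul_apply, hb]
    refine hmem τ hτ (Subtype.ext (Equiv.ext fun c => ?_))
    by_cases hc : c ∈ O b
    · simp only [SubgroupClass.coe_pow]
      exact Equiv.Perm.pow_apply_eq_self_of_apply_eq_self (hO c hc) 11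
    · have hdisj : ∀ x, x ∈ O c → x ∉ O b := by
        intro x hx hx'
        obtain ⟨i, hi, rfl⟩ := Finset.mem_image.mp hx
        obtain ⟨j, -, hj⟩ := Finset.mem_image.mp hx'
        apply hc
        have : (p ^ (11 - i + j)) b = c := by
          rw [pow_add, Perm.mul_apply, hj, ← Perm.mul_apply, ← pow_add,
            Nat.sub_add_cancel (Finset.mem_range.mp hi).le, hp11]
          rfl
        rw [← this]; exact hpmod _ _
      have hcover : O b ∪ O c = Finset.univ := by
        apply Finset.eq_univ_of_card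
        rw [Finset.card_union_of_disjoint (Finset.disjoint_right.mpr hdisj), hOc, hOc, C.card_eq]
      have hτc : (τ : Perm Ω) c ∈ O c := by
        have := Finset.mem_univ ((τ : Perm Ω) c)
        rw [← hcover, Finset.mem_union] at this
        rcases this with h | h
        · exact absurd ((τ : Perm Ω).injective (hO _ h)) (fun e => hc (e ▸ h))
        · exact h
      obtain ⟨i, -, hi⟩ := Finset.mem_image.mp hτc
      have key : ∀ k : ℕ, ((τ : Perm Ω) ^ k) c = (p ^ (i * k)) c := by
        intro k
        induction k with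
        | zero => simp
        | succ k ih =>
          rw [pow_succ', Perm.mul_apply, ih, ← Perm.mul_apply, (hτp _).eq, Perm.mul_apply, ← hi, ← Perm.mul_apply,
            ← pow_add]
          ring_nf
      simp only [SubgroupClass.coe_pow, OneMemClass.coe_one]
      rw [key, mul_comm, pow_mul, hp11, one_pow]
  by_cases hswap : ∃ b, σ b ∈ O b
  · obtain ⟨b, hb⟩ := hswap
    obtain ⟨i, hi, hib⟩ := Finset.mem_image.mp hb
    have : s * q ^ (11 - i) ∈ (Q : Subgroup C.H) := by
      refine hfixall _ ?_ ⟨b, ?_⟩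
      · exact (show Commute s q from hsq).mul_left ((Commute.refl q).pow_left _)
      · simp only [Subgroup.coe_mul, SubgroupClass.coe_pow, Perm.mul_apply]
        rw [← hp, ← hσ, ← Perm.mul_apply, (hσp.pow_right _).eq, Perm.mul_apply, ← hib, ← Perm.mul_apply,
          ← pow_add, Nat.sub_add_cancel (Finset.mem_range.mp hi).le, hp11]
        rfl
    have h2 := Subgroup.mul_mem _ this ((Q : Subgroup C.H).inv_mem ((Q : Subgroup C.H).pow_mem hqQ (11 - i)))
    rwa [mul_inv_cancel_right] at h2
  · exfalso
    push Not at hswap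
    -- the eleventh power of the swapping element is a fixed-point-free involution
    have hclass : ∀ (b x : Ω), x ∈ O b → O x = O b := by
      intro b x hx
      refine Finset.eq_of_subset_of_card_le (fun y hy => ?_) (by rw [hOc, hOc])
      obtain ⟨j, -, rfl⟩ := Finset.mem_image.mp hx
      obtain ⟨l, -, rfl⟩ := Finset.mem_image.mp hy
      rw [← Perm.mul_apply, ← pow_add]
      exact hpmod _ _
    have hcover : ∀ b x, x ∈ O b ∨ x ∈ O (σ b) := by
      intro b x
      have hd : Disjoint (O b) (O (σ b)) := by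
        rw [Finset.disjoint_left]
        intro y hy hy'
        apply hswap b
        rw [← hclass b y hy, hclass (σ b) y hy']
        simpa using hpmod 0 (σ b)
      have : O b ∪ O (σ b) = Finset.univ := by
        apply Finset.eq_univ_of_card
        rw [Finset.card_union_of_disjoint hd, hOc, hOc, C.card_eq]
      have h' := Finset.mem_univ x
      rwa [← this, Finset.mem_union] at h'
    have h2 : ∀ b, σ (σ b) ∈ O b := by
      intro b
      rcases hcover b (σ (σ b)) with h | h
      · exact h
      · exact absurd h (hswap (σ b))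
    have hs2 : s ^ 2 ∈ (Q : Subgroup C.H) := by
      obtain ⟨i, hi, hib⟩ := Finset.mem_image.mp (h2 a)
      have : s ^ 2 * q ^ (11 - i) ∈ (Q : Subgroup C.H) := by
        refine hfixall _ ?_ ⟨a, ?_⟩
        · exact ((show Commute s q from hsq).pow_left 2).mul_left ((Commute.refl q).pow_left _)
        · simp only [Subgroup.coe_mul, SubgroupClass.coe_pow, Perm.mul_apply]
          rw [← hp, ← hσ, ← Perm.mul_apply, ((hσp.pow_left 2).pow_right _).eq, Perm.mul_apply, sq, Perm.mul_apply,
            ← hib, ← Perm.mul_apply, ← pow_add, Nat.sub_add_cancel (Finset.mem_range.mp hi).le, hp11]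
          rfl
      have h3 := Subgroup.mul_mem _ this ((Q : Subgroup C.H).inv_mem ((Q : Subgroup C.H).pow_mem hqQ (11 - i)))
      rwa [mul_inv_cancel_right] at h3
    have hσ22 : σ ^ 22 = 1 := by
      have h := pow_card_eq_one' (G := (Q : Subgroup C.H)) (x := ⟨s ^ 2, hs2⟩)
      rw [show Nat.card (Q : Subgroup C.H) = 11 from hc] at h
      have h' := congrArg (fun u : Q => ((u : C.H) : Perm Ω)) h
      simpa [← pow_mul] using h'
    set t := σ ^ 11 with ht
    have ht2 : t ^ 2 = 1 := by rw [ht, ← pow_mul]; exact hσ22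
    have htfree : ∀ b, t b ≠ b := by
      intro b hb
      apply hswap b
      have hodd : ∀ k : ℕ, (σ ^ (2 * k)) b ∈ O b := by
        intro k
        induction k with
        | zero => simpa using hpmod 0 b
        | succ k ih =>
          rw [Nat.mul_succ, add_comm, pow_add, Perm.mul_apply, sq, Perm.mul_apply, ← hclass b _ ih]
          exact h2 _
      have h10 := hodd 5
      rw [ht, pow_succ' σ 10, Perm.mul_apply] at hb
      -- σ maps a point of the orbit of b to b
      have h3 : b ∈ O ((σ ^ 10) b) := by rw [hclass b _ h10]; simpa using hpmod 0 b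
      exfalso
      apply hswap ((σ ^ 10) b)
      rwa [show σ ((σ ^ 10) b) = b from hb]
    have hsign := heven t (C.H.pow_mem s.2 11)
    have hall : ∀ n ∈ t.cycleType, n = 2 := fun n hn => by
      have h1 := Perm.two_le_of_mem_cycleType hn
      have h2 := Nat.le_of_dvd (by norm_num)
        ((Perm.dvd_of_mem_cycleType hn).trans (orderOf_dvd_of_pow_eq_one ht2))
      omega
    have hsupp : t.support = Finset.univ := Finset.eq_univ_of_forall fun b => Perm.mem_support.mpr (htfree b)
    have hsum := Perm.sum_cycleType t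
    rw [hsupp, Finset.card_univ, C.card_eq, Multiset.eq_replicate_card.mpr hall, Multiset.sum_replicate,
      smul_eq_mul] at hsum
    rw [Perm.sign_of_cycleType, Perm.sum_cycleType, hsupp, Finset.card_univ, C.card_eq,
      show Multiset.card t.cycleType = 11 by omega] at hsign
    exact absurd hsign (by decide)

theorem card_normalizer_eleven (Q : Sylow 11 C.H) :
    ∃ e, e ∣ 10 ∧ e ≠ 1 ∧ Nat.card (Subgroup.normalizer ((Q : Subgroup C.H) : Set C.H)) = 11 * e := by
  classical
  haveI : Fact (Nat.Prime 11) := ⟨by norm_num⟩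
  have hc := card_sylow_eleven C Q
  have hC := centralizer_eleven C heven Q
  haveI hcyc : IsCyclic Q := isCyclic_of_prime_card hc
  set N := Subgroup.normalizer ((Q : Subgroup C.H) : Set C.H)
  let φ : N →* MulAut (Q : Subgroup C.H) := MulAut.conjNormal (H := (Q : Subgroup C.H).subgroupOf N) |>.comp
    (MonoidHom.id N) |> fun ψ => (MulAut.congr (Subgroup.subgroupOfEquivOfLe Subgroup.le_normalizer)).toMonoidHom.comp ψ
  have hφ : ∀ (n : N) (x : (Q : Subgroup C.H)), ((φ n x : (Q : Subgroup C.H)) : C.H) = n * x * (n : C.H)⁻¹ := by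
    intro n x
    rfl
  have hker : φ.ker = (Q : Subgroup C.H).subgroupOf N := by
    ext n
    rw [MonoidHom.mem_ker, Subgroup.mem_subgroupOf]
    constructor
    · intro h
      rw [← hC, Subgroup.mem_centralizer_iff]
      intro x hx
      have h1 : ((φ n ⟨x, hx⟩ : (Q : Subgroup C.H)) : C.H) = x := by rw [h]; rfl
      rw [hφ] at h1
      calc x * n = (n * x * (n : C.H)⁻¹) * n := by rw [h1]
        _ = n * x := by group
    · intro h
      ext x
      rw [hφ, MulAut.one_apply]
      rw [← hC, Subgroup.mem_centralizer_iff] at h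
      rw [← h x x.2, mul_inv_cancel_right]
  have h1 := Subgroup.card_mul_index φ.ker
  rw [Subgroup.index_ker, hker, Nat.card_congr (Subgroup.subgroupOfEquivOfLe Subgroup.le_normalizer).toEquiv] at h1
  rw [hc] at h1
  have hAut : Nat.card (MulAut (Q : Subgroup C.H)) = 10 := by
    rw [IsCyclic.card_mulAut, hc, Nat.totient_prime (by norm_num)]
  refine ⟨Nat.card φ.range, hAut ▸ Subgroup.card_subgroup_dvd_card _, fun he1 => ?_, h1.symm⟩
  rw [he1, mul_one] at h1
  have hNQ : N = (Q : Subgroup C.H) :=
    (Subgroup.eq_of_le_of_card_ge Subgroup.le_normalizer (by rw [← h1, hc])).symm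
  have hcompl := MonoidHom.ker_transferSylow_isComplement' Q (le_of_eq (hNQ.trans hC.symm))
  set K := (MonoidHom.transferSylow Q (le_of_eq (hNQ.trans hC.symm))).ker
  have hK := hcompl.card_mul
  rw [hc] at hK
  obtain ⟨a⟩ : Nonempty Ω := Fintype.card_pos_iff.mp (by rw [C.card_eq]; norm_num)
  have hH := card_H C a
  rw [← hK] at hH
  have hKne : K ≠ ⊥ := by
    intro h
    rw [h, Subgroup.card_bot] at hH
    have : 0 < Nat.card (stab C a) := Nat.card_pos
    omega
  obtain ⟨j, hj⟩ := dvd_card_normal C K hKne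
  -- the complement has order prime to eleven
  have hidx : (Q : Subgroup C.H).index = Nat.card K := by
    have := Subgroup.card_mul_index (Q : Subgroup C.H)
    rw [hc, ← hK, mul_comm (Nat.card K) 11] at this
    exact Nat.eq_of_mul_eq_mul_left (by norm_num) this
  exact Q.not_dvd_index (hidx ▸ ⟨2 * j, by rw [hj]; ring⟩)

/-- Divisibility information from the Sylow `11`-subgroups. -/
theorem eleven_numbers (a : Ω) : ∃ e n : ℕ, e ∣ 10 ∧ e ≠ 1 ∧ n % 11 = 1 ∧ e * n = 2 * Nat.card (stab C a) ∧
    Nat.card (Sylow 11 C.H) = n := by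
  haveI : Fact (Nat.Prime 11) := ⟨by norm_num⟩
  obtain ⟨Q⟩ : Nonempty (Sylow 11 C.H) := inferInstance
  obtain ⟨e, he, he1, hN⟩ := card_normalizer_eleven C heven Q
  have h1 := Subgroup.card_mul_index (Subgroup.normalizer ((Q : Subgroup C.H) : Set C.H))
  rw [hN, show (Subgroup.normalizer ((Q : Subgroup C.H) : Set C.H)).index = Nat.card (Sylow 11 C.H) from
    Q.card_eq_index_normalizer.symm, card_H C a] at h1
  refine ⟨e, Nat.card (Sylow 11 C.H), he, he1, ?_, ?_, rfl⟩
  · have := card_sylow_modEq_one 11 C.H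
    rw [Nat.ModEq] at this
    simpa using this
  · have h2 : 11 * (e * Nat.card (Sylow 11 C.H)) = 11 * (2 * Nat.card (stab C a)) := by
      rw [← mul_assoc, h1]; ring
    exact Nat.eq_of_mul_eq_mul_left (by norm_num) h2

end Cfsg.Lib.TwentyTwo
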