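import Cfsg.Agent.Lib.Perm.TwentyTwo.Basic

/-!
# The group is not of rank three
-/

set_option autoImplicit false
set_option linter.unusedSectionVars false

namespace Cfsg.Lib.TwentyTwo

open Equiv MulAction
open scoped Pointwise Matrix

variable {Ω : Type*} [Fintype Ω] [DecidableEq Ω]

/-- There is no strongly regular graph with parameters (22, 9, 4, 3). -/
theorem no_srg_22_9_4_3 (Γ : SimpleGraph Ω) [DecidableRel Γ.Adj] (h : Γ.IsSRGWith 22 9 4 3) : False := by
  classical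
  set A : Matrix Ω Ω ℚ := Γ.adjMatrix ℚ with hA
  set J : Matrix Ω Ω ℚ := Matrix.of fun _ _ => (1 : ℚ) with hJ
  have hc : Γᶜ.adjMatrix ℚ = J - 1 - A := by
    ext v w
    simp only [hA, hJ, SimpleGraph.adjMatrix_apply, SimpleGraph.compl_adj, Matrix.sub_apply, Matrix.of_apply,
      Matrix.one_apply]
    by_cases hvw : v = w
    · subst hvw; simp
    · by_cases ha : Γ.Adj v w <;> simp [hvw, ha]
  have hAA : A * A = (9 : ℚ) • (1 : Matrix Ω Ω ℚ) + (4 : ℚ) • A + (3 : ℚ) • (J - 1 - A) := by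
    rw [← pow_two, hA, h.matrix_eq, ← hc]
    simp only [← Nat.cast_smul_eq_nsmul ℚ]
    norm_num
  have hAJ : A * J = (9 : ℚ) • J := by
    ext v w
    have hd : (Γ.degree v : ℚ) = 9 := by exact_mod_cast h.regular v
    rw [hA, SimpleGraph.adjMatrix_mul_apply, hJ]
    simp [hd]
  have hJA : J * A = (9 : ℚ) • J := by
    ext v w
    have hd : (Γ.degree w : ℚ) = 9 := by exact_mod_cast h.regular w
    rw [hA, SimpleGraph.mul_adjMatrix_apply, hJ]
    simp [hd]
  have hJJ : J * J = (22 : ℚ) • J := by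
    ext v w
    simp [hJ, Matrix.mul_apply, h.card]
  set E : Matrix Ω Ω ℚ := (1 / 5 : ℚ) • (A + (2 : ℚ) • (1 : Matrix Ω Ω ℚ) - (1 / 2 : ℚ) • J) with hE
  have hidem : E * E = E := by
    simp only [hE, mul_add, add_mul, mul_sub, sub_mul, smul_mul_assoc, mul_smul_comm, smul_add, smul_sub,
      hAA, hAJ, hJA, hJJ, mul_one, one_mul]
    module
  have hid : IsIdempotentElem (Matrix.toLin' E) := by
    show Matrix.toLin' E * Matrix.toLin' E = Matrix.toLin' E
    rw [Module.End.mul_eq_comp, ← Matrix.toLin'_mul, hidem]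
  have htr := (LinearMap.IsIdempotentElem.isProj_range _ hid).trace
  rw [Matrix.trace_toLin'_eq] at htr
  have htA : A.trace = 0 := SimpleGraph.trace_adjMatrix ..
  have htJ : J.trace = 22 := by simp [hJ, Matrix.trace, h.card]
  have ht1 : (1 : Matrix Ω Ω ℚ).trace = 22 := by rw [Matrix.trace_one, h.card]; norm_num
  generalize Module.finrank ℚ (LinearMap.range (Matrix.toLin' E)) = r at htr
  rw [hE, Matrix.trace_smul, Matrix.trace_sub, Matrix.trace_add, Matrix.trace_smul, Matrix.trace_smul, htA,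
    htJ, ht1] at htr
  norm_num at htr
  have h33 : (5 * r : ℚ) = ((33 : ℕ) : ℚ) := by push_cast; linarith
  have h33' : 5 * r = 33 := by exact_mod_cast h33
  omega

variable (C : Conf Ω)
include C

theorem not_rank_three
    (hbig : ∀ a b : Ω, a ≠ b → 9 ≤ (outSet C a b a).card ∧ (outSet C a b a).card ≠ 21) : False := by
  classical
  obtain ⟨a₀⟩ : Nonempty Ω := Fintype.card_pos_iff.mp (by rw [C.card_eq]; norm_num)
  set E₀ := (Finset.univ : Finset Ω).erase a₀ with hE₀
  have hE : E₀.card = 21 := by rw [hE₀, Finset.card_erase_of_mem (Finset.mem_univ a₀), card_univ' C]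
  let O : Ω → Finset Ω := fun b => outSet C a₀ b a₀
  have hOsub : ∀ b, b ≠ a₀ → O b ⊆ E₀ := fun b hb c hc =>
    Finset.mem_erase.mpr ⟨(arc_ne hb.symm ((mem_outSet C).mp hc)).symm, Finset.mem_univ _⟩
  have hOdisj : ∀ b c, c ∉ O b → Disjoint (O b) (O c) := by
    intro b c hc
    rw [Finset.disjoint_left]
    intro x hx hx'
    exact hc ((mem_outSet C).mpr (arc_trans ((mem_outSet C).mp hx) (arc_symm ((mem_outSet C).mp hx'))))
  have hOself : ∀ b, b ∈ O b := fun b => (mem_outSet C).mpr (arc_refl a₀ b)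
  -- the other class
  have hrest : ∀ b, b ≠ a₀ → ∀ c ∈ E₀ \ O b, O c = E₀ \ O b := by
    intro b hb c hc
    rw [Finset.mem_sdiff] at hc
    have hca := Finset.ne_of_mem_erase hc.1
    have hsub : O c ⊆ E₀ \ O b := Finset.subset_sdiff.mpr ⟨hOsub c hca, (hOdisj b c hc.2).symm⟩
    refine Finset.Subset.antisymm hsub fun x hx => ?_
    by_contra hxc
    rw [Finset.mem_sdiff] at hx
    have hxa := Finset.ne_of_mem_erase hx.1
    have h1 : Disjoint (O b ∪ O c) (O x) :=
      Finset.disjoint_union_left.mpr ⟨hOdisj b x hx.2, hOdisj c x hxc⟩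
    have h2 : (O b ∪ O c) ∪ O x ⊆ E₀ :=
      Finset.union_subset (Finset.union_subset (hOsub b hb) (hOsub c hca)) (hOsub x hxa)
    have h3 := Finset.card_le_card h2
    rw [Finset.card_union_of_disjoint h1, Finset.card_union_of_disjoint (hOdisj b c hc.2), hE] at h3
    have e1 : 9 ≤ (O b).card := (hbig a₀ b hb.symm).1
    have e2 : 9 ≤ (O c).card := (hbig a₀ c hca.symm).1
    have e3 : 9 ≤ (O x).card := (hbig a₀ x hxa.symm).1
    omega
  obtain ⟨b₀, hb₀, hd₀⟩ : ∃ b, b ≠ a₀ ∧ (O b).card = 9 := by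
    obtain ⟨b, hb⟩ := exists_ne C a₀
    have h1 : 9 ≤ (O b).card := (hbig a₀ b hb.symm).1
    have h1' : (O b).card ≠ 21 := (hbig a₀ b hb.symm).2
    have h3 : 3 ∣ (O b).card := three_dvd_outSet C hb.symm a₀
    have hle := Finset.card_le_card (hOsub b hb)
    obtain ⟨c, hc⟩ : (E₀ \ O b).Nonempty := by
      rw [← Finset.card_pos, Finset.card_sdiff_of_subset (hOsub b hb)]
      omega
    have h2 := hrest b hb c hc
    have hca := Finset.ne_of_mem_erase (Finset.mem_sdiff.mp hc).1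
    have h2' : 9 ≤ (O c).card := (hbig a₀ c hca.symm).1
    rw [h2, Finset.card_sdiff_of_subset (hOsub b hb)] at h2'
    rcases (show (O b).card = 9 ∨ (O b).card = 12 by omega) with h | h
    · exact ⟨b, hb, h⟩
    · exact ⟨c, hca, by rw [h2, Finset.card_sdiff_of_subset (hOsub b hb), hE, h]⟩
  have hR12 : (E₀ \ O b₀).card = 12 := by rw [Finset.card_sdiff_of_subset (hOsub b₀ hb₀), hE, hd₀]
  obtain ⟨c₀, hc₀⟩ : (E₀ \ O b₀).Nonempty := Finset.card_pos.mp (by omega)
  -- self-paired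
  have hin : inSet C a₀ b₀ a₀ ⊆ O b₀ := by
    intro x hx
    by_contra hxO
    have hxa : x ≠ a₀ := arc_ne hb₀.symm ((mem_inSet C).mp hx)
    have h1 : O x = E₀ \ O b₀ :=
      hrest b₀ hb₀ x (Finset.mem_sdiff.mpr ⟨Finset.mem_erase.mpr ⟨hxa, Finset.mem_univ _⟩, hxO⟩)
    have h2 : O x ⊆ inSet C a₀ b₀ a₀ := by
      intro y hy
      obtain ⟨g, hg, hga, rfl⟩ := (mem_outSet C).mp hy
      exact inSet_invariant C a₀ b₀ a₀ ((mem_stab C).mpr ⟨hg, hga⟩) hx
    have h3 := Finset.card_le_card h2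
    rw [h1, hR12, card_inSet_eq C a₀ b₀ a₀ a₀] at h3
    change 12 ≤ (O b₀).card at h3
    omega
  have hsymm : ∀ a b, arc C a₀ b₀ a b → arc C a₀ b₀ b a := by
    intro a b hab
    obtain ⟨g, hg, hga⟩ := C.trans b a₀
    have h1 := arc_smul hab hg
    rw [hga] at h1
    have h2 := arc_smul ((mem_outSet C).mp (hin ((mem_inSet C).mpr h1))) (C.H.inv_mem hg)
    simpa [← hga] using h2
  let Γ : SimpleGraph Ω :=
    { Adj := fun a b => arc C a₀ b₀ a b
      symm := ⟨hsymm⟩
      loopless := ⟨fun a h => arc_ne hb₀.symm h rfl⟩ }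
  have hnbr : ∀ a, Γ.neighborFinset a = outSet C a₀ b₀ a := fun a => by
    ext b; rw [SimpleGraph.mem_neighborFinset, mem_outSet]
  have hdeg : ∀ a, (outSet C a₀ b₀ a).card = 9 := fun a => (card_outSet C a₀ b₀ a₀ a).trans hd₀
  let cn : Ω → Ω → ℕ := fun a b => (outSet C a₀ b₀ a ∩ outSet C a₀ b₀ b).card
  have hcn : ∀ g ∈ C.H, ∀ a b, cn (g a) (g b) = cn a b := by
    intro g hg a b
    simp only [cn, outSet_smul C hg, ← Finset.image_inter _ _ g.injective,
      Finset.card_image_of_injective _ g.injective]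
  have hnon : ∀ a b, a ≠ b → ¬ arc C a₀ b₀ a b → arc C a₀ c₀ a b := by
    intro a b hab hn
    obtain ⟨g, hg, rfl⟩ := C.trans a₀ a
    have hb : g⁻¹ b ∈ E₀ \ O b₀ := by
      rw [Finset.mem_sdiff, hE₀, Finset.mem_erase]
      refine ⟨⟨fun h => hab (by rw [← h]; simp), Finset.mem_univ _⟩, fun h => hn ?_⟩
      have := arc_smul ((mem_outSet C).mp h) hg
      simpa using this
    rw [← hrest b₀ hb₀ c₀ hc₀] at hb
    simpa using arc_smul ((mem_outSet C).mp hb) hg
  set l := cn a₀ b₀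
  set m := cn a₀ c₀
  have hl : ∀ a b, arc C a₀ b₀ a b → cn a b = l := by
    rintro a b ⟨g, hg, rfl, rfl⟩; exact hcn g hg a₀ b₀
  have hm : ∀ a b, a ≠ b → ¬ arc C a₀ b₀ a b → cn a b = m := by
    intro a b hab hn
    obtain ⟨g, hg, rfl, rfl⟩ := hnon a b hab hn
    exact hcn g hg a₀ c₀
  have hcommon : ∀ a b, Fintype.card (Γ.commonNeighbors a b) = cn a b := by
    intro a b
    rw [← Set.toFinset_card]
    refine congrArg Finset.card (Finset.ext fun x => ?_)
    rw [Set.mem_toFinset, SimpleGraph.mem_commonNeighbors, Finset.mem_inter, mem_outSet, mem_outSet]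
  have hsrg : Γ.IsSRGWith 22 9 l m :=
    { card := C.card_eq
      regular := fun a => by rw [← SimpleGraph.card_neighborFinset_eq_degree, hnbr, hdeg]
      of_adj := fun a b h => (hcommon a b).trans (hl a b h)
      of_not_adj := fun a b hab hn => (hcommon a b).trans (hm a b hab hn) }
  have hpar := SimpleGraph.IsSRGWith.param_eq Γ hsrg (by norm_num)
  have hm9 : m ≤ 9 := hdeg a₀ ▸ Finset.card_le_card Finset.inter_subset_left
  rcases (show (l = 8 ∧ m = 0) ∨ (l = 4 ∧ m = 3) ∨ (l = 0 ∧ m = 6) by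
    have hl9 : l ≤ 9 := hdeg a₀ ▸ Finset.card_le_card Finset.inter_subset_left
    have hl8 : l ≠ 9 := by
      intro h
      have heq : outSet C a₀ b₀ a₀ ∩ outSet C a₀ b₀ b₀ = outSet C a₀ b₀ a₀ :=
        Finset.eq_of_subset_of_card_le Finset.inter_subset_left (by
          show _ ≤ cn a₀ b₀
          rw [hdeg]; exact h.ge)
      have : b₀ ∈ outSet C a₀ b₀ a₀ ∩ outSet C a₀ b₀ b₀ := heq.symm ▸ (mem_outSet C).mpr (arc_refl a₀ b₀)
      exact arc_ne hb₀.symm ((mem_outSet C).mp (Finset.mem_inter.mp this).2) rfl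
    interval_cases l <;> omega) with ⟨hl8, hm0⟩ | ⟨hl4, hm3⟩ | ⟨hl0, hm6⟩
  · -- disconnected
    have hS := eq_univ_of_closed C hb₀.symm
      (S := {x | x = a₀ ∨ arc C a₀ b₀ a₀ x}) (s := a₀) (Or.inl rfl) (by
        rintro a b hab (rfl | ha)
        · exact Or.inr hab
        · by_cases hba : b = a₀
          · exact Or.inl hba
          · right
            by_contra hn
            have h0 := (hm a₀ b (Ne.symm hba) hn).trans hm0
            have : a ∈ outSet C a₀ b₀ a₀ ∩ outSet C a₀ b₀ b :=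
              Finset.mem_inter.mpr ⟨(mem_outSet C).mpr ha, (mem_outSet C).mpr (hsymm _ _ hab)⟩
            exact Finset.notMem_empty a (Finset.card_eq_zero.mp h0 ▸ this))
    rcases Set.eq_univ_iff_forall.mp hS c₀ with h | h
    · exact (Finset.ne_of_mem_erase (Finset.mem_sdiff.mp hc₀).1) h
    · exact (Finset.mem_sdiff.mp hc₀).2 ((mem_outSet C).mpr h)
  · rw [hl4, hm3] at hsrg
    exact no_srg_22_9_4_3 Γ hsrg
  · -- triangle-free
    have hca : c₀ ≠ a₀ := Finset.ne_of_mem_erase (Finset.mem_sdiff.mp hc₀).1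
    have hcn0 : ¬ arc C a₀ b₀ a₀ c₀ := fun h => (Finset.mem_sdiff.mp hc₀).2 ((mem_outSet C).mpr h)
    obtain ⟨δ, hδ⟩ : (outSet C a₀ b₀ c₀ \ outSet C a₀ b₀ a₀).Nonempty := by
      rw [← Finset.card_pos, Finset.card_sdiff, hdeg]
      show 0 < 9 - cn a₀ c₀
      rw [hm a₀ c₀ hca.symm hcn0, hm6]
      norm_num
    rw [Finset.mem_sdiff, mem_outSet, mem_outSet] at hδ
    have hδa : a₀ ≠ δ := fun h => hcn0 (hsymm _ _ (h ▸ hδ.1))
    have h1 : Disjoint (outSet C a₀ b₀ a₀ ∩ outSet C a₀ b₀ c₀) (outSet C a₀ b₀ a₀ ∩ outSet C a₀ b₀ δ) := by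
      rw [Finset.disjoint_left]
      intro x hx hx'
      have h0 := (hl c₀ δ hδ.1).trans hl0
      exact Finset.notMem_empty x (Finset.card_eq_zero.mp h0 ▸
        Finset.mem_inter.mpr ⟨(Finset.mem_inter.mp hx).2, (Finset.mem_inter.mp hx').2⟩)
    have h2 := Finset.card_le_card
      (Finset.union_subset (Finset.inter_subset_left (s₁ := outSet C a₀ b₀ a₀) (s₂ := outSet C a₀ b₀ c₀))
        (Finset.inter_subset_left (s₁ := outSet C a₀ b₀ a₀) (s₂ := outSet C a₀ b₀ δ)))
    rw [Finset.card_union_of_disjoint h1, hdeg] at h2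
    have e1 := (hm a₀ c₀ hca.symm hcn0).trans hm6
    have e2 := (hm a₀ δ hδa hδ.2).trans hm6
    simp only [cn] at e1 e2
    omega

end Cfsg.Lib.TwentyTwo
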