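import Cfsg.Agent.Lib.Perm.TwentyTwo.SmallCase
import Cfsg.Agent.Lib.Perm.TwentyTwo.DoublyTransitive
import Cfsg.Agent.Lib.Perm.TwentyTwo.RankThree

/-!
# No finite group has exactly 22 Sylow `3`-subgroups
-/

set_option autoImplicit false

namespace Cfsg.Lib.TwentyTwo

open scoped Pointwise

theorem no_conf {Ω : Type*} [Fintype Ω] [DecidableEq Ω] (C₀ : Conf Ω) : False := by
  classical
  obtain ⟨C, heven⟩ := exists_even C₀
  by_cases h1 : ∃ a b : Ω, a ≠ b ∧ (outSet C a b a).card ≤ 6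
  · obtain ⟨a, b, hab, hd⟩ := h1
    exact no_small_suborbit C heven hab hd
  · push Not at h1
    by_cases h2 : ∃ a b : Ω, a ≠ b ∧ (outSet C a b a).card = 21
    · obtain ⟨a, b, hab, hd⟩ := h2
      exact not_two_transitive C heven hab hd
    · push Not at h2
      refine not_rank_three C fun a b hab => ⟨?_, h2 a b hab⟩
      have h6 := h1 a b hab
      obtain ⟨k, hk⟩ := three_dvd_outSet C hab a
      omega

theorem card_sylow_three_ne {G : Type*} [Group G] [Finite G] : Nat.card (Sylow 3 G) ≠ 22 := by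
  classical
  intro h22
  haveI := Fact.mk Nat.prime_three
  haveI := Fintype.ofFinite (Sylow 3 G)
  rw [Nat.card_eq_fintype_card] at h22
  let φ : G →* Equiv.Perm (Sylow 3 G) := MulAction.toPermHom G (Sylow 3 G)
  have hφ : ∀ g Q, φ g Q = g • Q := fun g Q => rfl
  refine no_conf
    { H := φ.range
      P := fun Q => (Q : Subgroup G).map φ
      card_eq := h22
      trans := ?_
      le := fun Q => Subgroup.map_le_range φ _
      fix_self := ?_
      conj_mem := ?_
      pgroup := fun Q => Q.2.map φ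
      mem_of := ?_
      only := ?_ }
  · intro Q R
    obtain ⟨g, hg⟩ := MulAction.exists_smul_eq G Q R
    exact ⟨φ g, ⟨g, rfl⟩, hg⟩
  · rintro Q _ ⟨x, hx, rfl⟩
    rw [hφ]
    exact Sylow.smul_eq_iff_mem_normalizer.mpr (Subgroup.le_normalizer hx)
  · rintro _ ⟨g, rfl⟩ Q _ ⟨x, hx, rfl⟩
    refine ⟨g * x * g⁻¹, ?_, by simp⟩
    rw [hφ, SetLike.mem_coe, Sylow.coe_subgroup_smul]
    exact Subgroup.smul_mem_pointwise_smul x (MulAut.conj g) (Q : Subgroup G) hx
  · rintro Q _ ⟨g, rfl⟩ hfix ⟨k, hk⟩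
    rw [hφ] at hfix
    obtain ⟨e, m, hm, hord⟩ :=
      Nat.exists_eq_pow_mul_and_not_dvd (orderOf_pos g).ne' 3 (by norm_num)
    have hgm : (g ^ m) ^ 3 ^ e = 1 := by
      rw [← pow_mul, mul_comm, ← hord, pow_orderOf_eq_one]
    have hpg : IsPGroup 3 (Subgroup.zpowers (g ^ m)) := by
      rintro ⟨y, hy⟩
      obtain ⟨i, rfl⟩ := Subgroup.mem_zpowers_iff.mp hy
      refine ⟨e, Subtype.ext ?_⟩
      rw [Subgroup.coe_pow, Subgroup.coe_one, ← zpow_natCast, ← zpow_mul, mul_comm, zpow_mul, zpow_natCast,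
        hgm, one_zpow]
    have hgN : g ∈ Subgroup.normalizer ((Q : Subgroup G) : Set G) := Sylow.smul_eq_iff_mem_normalizer.mp hfix
    have hmQ : g ^ m ∈ (Q : Subgroup G) :=
      ((hpg.inf_normalizer_sylow Q).le ⟨Subgroup.mem_zpowers _, Subgroup.pow_mem _ hgN m⟩).2
    have hco : Nat.Coprime m (orderOf (φ g)) := by
      obtain ⟨j, -, hj⟩ := (Nat.dvd_prime_pow Nat.prime_three).mp (orderOf_dvd_of_pow_eq_one hk)
      rw [hj]
      exact (Nat.Coprime.pow_left j ((Nat.Prime.coprime_iff_not_dvd Nat.prime_three).mpr hm)).symm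
    obtain ⟨i, hi⟩ := exists_pow_eq_self_of_coprime hco
    exact ⟨(g ^ m) ^ i, (Q : Subgroup G).pow_mem hmQ i, by rw [map_pow, map_pow, hi]⟩
  · intro Q R hfix
    refine Sylow.ext (Q.3 R.2 fun x hx => ?_)
    have hN : (Q : Subgroup G) ≤ Subgroup.normalizer ((R : Subgroup G) : Set G) := fun y hy =>
      Sylow.smul_eq_iff_mem_normalizer.mp (hfix (φ y) ⟨y, hy, rfl⟩)
    exact ((Q.2.inf_normalizer_sylow R).le ⟨hx, hN hx⟩).2

end Cfsg.Lib.TwentyTwo
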