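import Cfsg.Agent.Lib.Perm.TwentyTwo.SmallP

/-!
# Orbits of the Sylow subgroups on small invariant sets
-/

set_option autoImplicit false
set_option linter.unusedSectionVars false

namespace Cfsg.Lib.TwentyTwo

open Equiv MulAction
open scoped Pointwise

variable {Ω : Type*} [Fintype Ω] [DecidableEq Ω] (C : Conf Ω)
include C

open Classical in
/-- The orbit of `b` under `P a`. -/
noncomputable def pOrbit (a b : Ω) : Finset Ω := Finset.univ.filter fun c => ∃ x ∈ C.P a, x b = c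

theorem mem_pOrbit {a b c : Ω} : c ∈ pOrbit C a b ↔ ∃ x ∈ C.P a, x b = c := by simp [pOrbit]

theorem self_mem_pOrbit (a b : Ω) : b ∈ pOrbit C a b :=
  (mem_pOrbit C).mpr ⟨1, (C.P a).one_mem, rfl⟩

theorem pOrbit_eq {a b c : Ω} (h : c ∈ pOrbit C a b) : pOrbit C a c = pOrbit C a b := by
  obtain ⟨x, hx, rfl⟩ := (mem_pOrbit C).mp h
  ext d
  simp only [mem_pOrbit]
  constructor
  · rintro ⟨y, hy, rfl⟩
    exact ⟨y * x, (C.P a).mul_mem hy hx, rfl⟩
  · rintro ⟨y, hy, rfl⟩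
    exact ⟨y * x⁻¹, (C.P a).mul_mem hy ((C.P a).inv_mem hx), by simp⟩

theorem pOrbit_image {a : Ω} {g : Perm Ω} (hg : g ∈ stab C a) (b : Ω) :
    (pOrbit C a b).image g = pOrbit C a (g b) := by
  ext d
  simp only [Finset.mem_image, mem_pOrbit]
  constructor
  · rintro ⟨_, ⟨x, hx, rfl⟩, rfl⟩
    exact ⟨g * x * g⁻¹, conj_mem_P C hg hx, by simp⟩
  · rintro ⟨y, hy, rfl⟩
    refine ⟨(g⁻¹ * y * g) b, ⟨_, ?_, rfl⟩, by simp⟩
    have := conj_mem_P C ((stab C a).inv_mem hg) hy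
    rwa [inv_inv] at this

theorem pOrbit_subset {a b : Ω} {s : Finset Ω} (hb : b ∈ s) (hinv : ∀ x ∈ C.P a, ∀ c ∈ s, x c ∈ s) :
    pOrbit C a b ⊆ s := by
  intro c hc
  obtain ⟨x, hx, rfl⟩ := (mem_pOrbit C).mp hc
  exact hinv x hx b hb

theorem card_pOrbit_mul (a b : Ω) :
    (pOrbit C a b).card * Nat.card ↥(C.P a ⊓ C.P b) = Nat.card (C.P a) := by
  classical
  have h := MulAction.card_orbit_mul_card_stabilizer_eq_card_group (C.P a) b
  rw [← Nat.card_eq_fintype_card, ← Nat.card_eq_fintype_card, ← Nat.card_eq_fintype_card] at h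
  have h1 : Nat.card (orbit (C.P a) b) = (pOrbit C a b).card := by
    rw [← Nat.card_eq_finsetCard]
    refine Nat.card_congr (Equiv.subtypeEquivRight fun c => ?_)
    rw [mem_pOrbit]
    exact ⟨fun ⟨g, hg⟩ => ⟨g, g.2, hg⟩, fun ⟨x, hx, hc⟩ => ⟨⟨x, hx⟩, hc⟩⟩
  have h2 : Nat.card (stabilizer (C.P a) b) = Nat.card ↥(C.P a ⊓ C.P b) :=
    Nat.card_congr
      { toFun := fun g => ⟨g.1.1, (mem_inf_iff C a b _).mpr ⟨g.1.2, g.2⟩⟩
        invFun := fun g => ⟨⟨g.1, g.2.1⟩, C.fix_self b g.1 g.2.2⟩ }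
  rw [← h1, ← h2]
  exact h

theorem card_pOrbit_three {a b : Ω} (hne : b ≠ a) {s : Finset Ω} (hs : s.card ≤ 6) (hb : b ∈ s)
    (hinv : ∀ x ∈ C.P a, ∀ c ∈ s, x c ∈ s) : (pOrbit C a b).card = 3 := by
  haveI := Fact.mk Nat.prime_three
  have hle := (Finset.card_le_card (pOrbit_subset C hb hinv)).trans hs
  have h2 : 2 ≤ (pOrbit C a b).card := by
    by_contra h
    refine hne (C.only a b fun x hx => ?_)
    exact Finset.card_le_one.mp (by omega) _ ((mem_pOrbit C).mpr ⟨x, hx, rfl⟩) _ (self_mem_pOrbit C a b)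
  obtain ⟨k, hk⟩ := IsPGroup.iff_card.mp (C.pgroup a)
  obtain ⟨j, -, hj⟩ := (Nat.dvd_prime_pow Nat.prime_three).mp (hk ▸ Dvd.intro _ (card_pOrbit_mul C a b))
  rw [hj] at hle h2 ⊢
  rcases (show j = 0 ∨ j = 1 ∨ 2 ≤ j by omega) with rfl | rfl | h
  · norm_num at h2
  · rfl
  · have := Nat.pow_le_pow_right (show 0 < 3 by norm_num) h
    omega

/-- When the orbit has length three, its pointwise stabiliser is the stabiliser of any of its points. -/
theorem inf_eq_of_mem_pOrbit {a b c : Ω} (h3 : (pOrbit C a b).card = 3) (hc : c ∈ pOrbit C a b) :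
    C.P a ⊓ C.P c = C.P a ⊓ C.P b := by
  haveI := Fact.mk Nat.prime_three
  obtain ⟨x, hx, rfl⟩ := (mem_pOrbit C).mp hc
  have hm := card_pOrbit_mul C a b
  rw [h3] at hm
  set K := (C.P a ⊓ C.P b).subgroupOf (C.P a) with hK
  haveI : K.Normal := by
    refine Subgroup.normal_of_index_eq_minFac_card ?_
    have hKc : Nat.card K = Nat.card ↥(C.P a ⊓ C.P b) :=
      Nat.card_congr (Subgroup.subgroupOfEquivOfLe inf_le_left).toEquiv
    have h1 := Subgroup.card_mul_index K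
    rw [hKc, ← hm, mul_comm 3] at h1
    have hidx : K.index = 3 := Nat.eq_of_mul_eq_mul_left Nat.card_pos h1
    obtain ⟨k, hk⟩ := IsPGroup.iff_card.mp (C.pgroup a)
    rw [hidx, hk]
    rcases Nat.eq_zero_or_pos k with rfl | hkpos
    · rw [hk, pow_zero] at hm
      omega
    · rw [Nat.Prime.pow_minFac Nat.prime_three hkpos.ne']
  have hle : C.P a ⊓ C.P b ≤ C.P a ⊓ C.P (x b) := by
    intro y hy
    have h := inf_smul C (C.le a hx) a b
    rw [C.fix_self a x hx] at h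
    rw [h]
    refine ⟨x⁻¹ * y * x, ?_, by simp [MulAut.conj_apply]; group⟩
    have h' := (inferInstance : K.Normal).conj_mem ⟨y, hy.1⟩ (by rw [hK, Subgroup.mem_subgroupOf]; exact hy)
      ⟨x⁻¹, (C.P a).inv_mem hx⟩
    rw [hK, Subgroup.mem_subgroupOf] at h'
    simpa using h'
  refine (Subgroup.eq_of_le_of_card_ge hle (le_of_eq ?_)).symm
  have h1 := card_pOrbit_mul C a (x b)
  rw [pOrbit_eq C hc, h3, ← hm] at h1
  exact Nat.eq_of_mul_eq_mul_left (by norm_num) h1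

end Cfsg.Lib.TwentyTwo
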