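import Mathlib

/-!
# Counting involutions in a group with twelve Sylow `11`-subgroups
-/

set_option autoImplicit false

namespace Cfsg.Lib.TwentyTwo

open scoped Pointwise

variable {G : Type*} [Group G] [Fintype G] [Fact (Nat.Prime 11)]

/-- An involution normalises at most two of twelve self-centralising Sylow `11`-subgroups. -/
theorem fixed_le_two [DecidableEq (Sylow 11 G)] [Fintype (Sylow 11 G)]
    (hc : ∀ Q : Sylow 11 G, Nat.card Q = 11)
    (hC : ∀ Q : Sylow 11 G, Subgroup.centralizer ((Q : Subgroup G) : Set G) = (Q : Subgroup G))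
    (hn : Fintype.card (Sylow 11 G) = 12) {t : G} (ht : orderOf t = 2) :
    ((Finset.univ : Finset (Sylow 11 G)).filter fun Q => t • Q = Q).card ≤ 2 := by
  classical
  by_contra h
  rw [not_le] at h
  obtain ⟨Q, R, S, hQ, hR, hS, hQR, hQS, hRS⟩ := Finset.two_lt_card_iff.mp h
  simp only [Finset.mem_filter, Finset.mem_univ, true_and] at hQ hR hS
  -- distinct Sylow subgroups meet trivially
  have hsemi : ∀ T : Sylow 11 G, T ≠ Q → ∀ x ∈ (Q : Subgroup G), x • T = T → x = 1 := by
    intro T hT x hx hxT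
    by_contra hx1
    have hz : Subgroup.zpowers x = (Q : Subgroup G) :=
      Subgroup.eq_of_le_of_card_ge (Subgroup.zpowers_le.mpr hx) (by
        rw [hc Q, Nat.card_zpowers]
        have hd : orderOf x ∣ 11 := hc Q ▸ Subgroup.orderOf_dvd_natCard _ hx
        rcases (Nat.dvd_prime Fact.out).mp hd with h' | h'
        · exact absurd (orderOf_eq_one_iff.mp h') hx1
        · rw [h'])
    have hQT : (Q : Subgroup G) ≤ Subgroup.normalizer ((T : Subgroup G) : Set G) := by
      rw [← hz, Subgroup.zpowers_le]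
      exact Sylow.smul_eq_iff_mem_normalizer.mp hxT
    have := IsPGroup.inf_normalizer_sylow Q.2 T
    exact hT (Sylow.ext (Q.3 T.2 (fun z hz => (this.le ⟨hz, hQT hz⟩).2)))
  -- so `Q` is transitive on the others
  obtain ⟨y, hy, hyR⟩ : ∃ y ∈ (Q : Subgroup G), y • R = S := by
    let O : Finset (Sylow 11 G) := (Finset.univ : Finset ↥(Q : Subgroup G)).image fun x : ↥(Q : Subgroup G) => (x : G) • R
    have hOc : O.card = 11 := by
      rw [Finset.card_image_of_injective]
      · rw [Finset.card_univ, ← Nat.card_eq_fintype_card]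
        exact hc Q
      · intro x x' hxx
        have := hsemi R hQR.symm ((x' : G)⁻¹ * x) ((Q : Subgroup G).mul_mem
          ((Q : Subgroup G).inv_mem x'.2) x.2) (by rw [mul_smul]; exact inv_smul_eq_iff.mpr hxx)
        exact Subtype.ext (inv_mul_eq_one.mp this).symm
    have hO : O = Finset.univ.erase Q := by
      refine Finset.eq_of_subset_of_card_le (fun T hT => ?_) ?_
      · obtain ⟨x, -, rfl⟩ := Finset.mem_image.mp hT
        rw [Finset.mem_erase]
        refine ⟨fun hxQ => hQR ?_, Finset.mem_univ _⟩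
        have hx : (x : G) • Q = Q :=
          Sylow.smul_eq_iff_mem_normalizer.mpr (Subgroup.le_normalizer x.2)
        exact ((smul_left_cancel (x : G) (hxQ.trans hx.symm))).symm
      · rw [Finset.card_erase_of_mem (Finset.mem_univ _), Finset.card_univ, hn, hOc]
    have hS' : S ∈ O := hO ▸ Finset.mem_erase.mpr ⟨hQS.symm, Finset.mem_univ _⟩
    obtain ⟨x, -, hx⟩ := Finset.mem_image.mp hS'
    exact ⟨x, x.2, hx⟩
  -- the involution centralises `y`
  have hy1 : y ≠ 1 := fun h => hRS (by rw [← hyR, h, one_smul])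
  have htQ : t ∈ Subgroup.normalizer ((Q : Subgroup G) : Set G) := Sylow.smul_eq_iff_mem_normalizer.mp hQ
  have hcomm : y⁻¹ * (t * y * t⁻¹) = 1 := by
    refine hsemi R hQR.symm _ ((Q : Subgroup G).mul_mem ((Q : Subgroup G).inv_mem hy)
      ((Subgroup.mem_normalizer_iff.mp htQ y).mp hy)) ?_
    rw [mul_smul, mul_smul, mul_smul, inv_smul_eq_iff, show t⁻¹ • R = R from inv_smul_eq_iff.mpr hR.symm,
      hyR, hS]
  have hty : t * y = y * t := by
    rw [inv_mul_eq_one] at hcomm
    exact (mul_inv_eq_iff_eq_mul.mp hcomm.symm)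
  have hz : Subgroup.zpowers y = (Q : Subgroup G) :=
    Subgroup.eq_of_le_of_card_ge (Subgroup.zpowers_le.mpr hy) (by
      rw [hc Q, Nat.card_zpowers]
      have hd : orderOf y ∣ 11 := hc Q ▸ Subgroup.orderOf_dvd_natCard _ hy
      rcases (Nat.dvd_prime Fact.out).mp hd with h' | h'
      · exact absurd (orderOf_eq_one_iff.mp h') hy1
      · rw [h'])
  have htC : t ∈ (Q : Subgroup G) := by
    rw [← hC Q, Subgroup.mem_centralizer_iff]
    intro x hx
    rw [← hz] at hx
    obtain ⟨i, rfl⟩ := Subgroup.mem_zpowers_iff.mp hx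
    exact ((show Commute t y from hty).zpow_right i).eq.symm
  have := hc Q ▸ Subgroup.orderOf_dvd_natCard _ htC
  rw [ht] at this
  norm_num at this

/-- A group of order at most 264 with twelve self-centralising Sylow `11`-subgroups has at least 66
involutions. -/
theorem involutions_ge (hG : Nat.card G ≤ 264)
    (hc : ∀ Q : Sylow 11 G, Nat.card Q = 11)
    (hC : ∀ Q : Sylow 11 G, Subgroup.centralizer ((Q : Subgroup G) : Set G) = (Q : Subgroup G))
    (hN : ∀ Q : Sylow 11 G, Nat.card (Subgroup.normalizer ((Q : Subgroup G) : Set G)) = 22)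
    (hn : Nat.card (Sylow 11 G) = 12) :
    66 ≤ ((Finset.univ : Finset G).filter fun g => orderOf g = 2).card := by
  classical
  haveI := Fintype.ofFinite (Sylow 11 G)
  rw [Nat.card_eq_fintype_card] at hn
  have hex : ∀ p : Sylow 11 G × Sylow 11 G, p.1 ≠ p.2 →
      ∃ t : G, orderOf t = 2 ∧ t • p.1 = p.1 ∧ t • p.2 = p.2 := by
    rintro ⟨Q, R⟩ hne
    set N := Subgroup.normalizer ((Q : Subgroup G) : Set G) with hNdef
    set M := Subgroup.normalizer ((R : Subgroup G) : Set G) with hMdef
    have hnd : N ⊓ M ≠ ⊥ := by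
      intro hd
      have h := Nat.card_le_card_of_injective _ (Subgroup.mul_injective_of_disjoint (disjoint_iff.mpr hd))
      rw [Nat.card_prod, hN, hN] at h
      omega
    obtain ⟨t, ht, ht1⟩ := (N ⊓ M).bot_or_exists_ne_one.resolve_left hnd
    refine ⟨t, ?_, Sylow.smul_eq_iff_mem_normalizer.mpr ht.1, Sylow.smul_eq_iff_mem_normalizer.mpr ht.2⟩
    refine orderOf_eq_prime ?_ ht1
    have hidx : ((Q : Subgroup G).subgroupOf N).index = 2 := by
      have h := Subgroup.card_mul_index ((Q : Subgroup G).subgroupOf N)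
      rw [Nat.card_congr (Subgroup.subgroupOfEquivOfLe Subgroup.le_normalizer).toEquiv, hc Q,
        hN Q] at h
      omega
    have h2 := Subgroup.sq_mem_of_index_two hidx ⟨t, ht.1⟩
    rw [Subgroup.mem_subgroupOf] at h2
    have h3 : t ^ 2 ∈ (R : Subgroup G) := by
      have h4 : t ^ 2 ∈ (Q : Subgroup G) ⊓ M := ⟨h2, M.pow_mem ht.2 2⟩
      exact ((IsPGroup.inf_normalizer_sylow Q.2 R).le h4).2
    by_contra ht2
    have hd : orderOf (t ^ 2) ∣ 11 := hc Q ▸ Subgroup.orderOf_dvd_natCard _ h2
    rcases (Nat.dvd_prime Fact.out).mp hd with h | h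
    · exact ht2 (orderOf_eq_one_iff.mp h)
    · refine hne (Sylow.ext ?_)
      have e1 : Subgroup.zpowers (t ^ 2) = (Q : Subgroup G) :=
        Subgroup.eq_of_le_of_card_ge (Subgroup.zpowers_le.mpr h2) (by rw [Nat.card_zpowers, h, hc Q])
      have e2 : Subgroup.zpowers (t ^ 2) = (R : Subgroup G) :=
        Subgroup.eq_of_le_of_card_ge (Subgroup.zpowers_le.mpr h3) (by rw [Nat.card_zpowers, h, hc R])
      exact e1.symm.trans e2
  choose! f hf using hex
  have hle := Finset.card_le_mul_card_image (f := f) (Finset.univ : Finset (Sylow 11 G)).offDiag 2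
    fun t ht => by
      obtain ⟨p, hp, rfl⟩ := Finset.mem_image.mp ht
      have h2 := fixed_le_two hc hC hn (hf p (Finset.mem_offDiag.mp hp).2.2).1
      calc _ ≤ ((Finset.univ : Finset (Sylow 11 G)).filter fun Q => f p • Q = Q).offDiag.card := by
            refine Finset.card_le_card fun q hq => ?_
            simp only [Finset.mem_filter, Finset.mem_offDiag, Finset.mem_univ, true_and] at hq ⊢
            exact ⟨hq.2 ▸ (hf q hq.1).2.1, hq.2 ▸ (hf q hq.1).2.2, hq.1⟩
        _ ≤ 2 := by
          rw [Finset.offDiag_card]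
          generalize Finset.card _ = m at h2 ⊢
          interval_cases m <;> norm_num
  rw [Finset.offDiag_card, Finset.card_univ, hn] at hle
  have hsub : ((Finset.univ : Finset (Sylow 11 G)).offDiag.image f).card ≤
      ((Finset.univ : Finset G).filter fun g => orderOf g = 2).card := by
    refine Finset.card_le_card fun t ht => ?_
    obtain ⟨p, hp, rfl⟩ := Finset.mem_image.mp ht
    exact Finset.mem_filter.mpr ⟨Finset.mem_univ _, (hf p (Finset.mem_offDiag.mp hp).2.2).1⟩
  omega

/-- The elements of order 11. -/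
theorem eleven_elements (hc : ∀ Q : Sylow 11 G, Nat.card Q = 11) (hn : Nat.card (Sylow 11 G) = 12) :
    120 ≤ ((Finset.univ : Finset G).filter fun g => orderOf g = 11).card := by
  classical
  haveI := Fintype.ofFinite (Sylow 11 G)
  rw [Nat.card_eq_fintype_card] at hn
  have hord : ∀ (Q : Sylow 11 G) (x : G), x ∈ (Q : Subgroup G) → x ≠ 1 → orderOf x = 11 := by
    intro Q x hx hx1
    have hd : orderOf x ∣ 11 := hc Q ▸ Subgroup.orderOf_dvd_natCard _ hx
    rcases (Nat.dvd_prime Fact.out).mp hd with h | h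
    · exact absurd (orderOf_eq_one_iff.mp h) hx1
    · exact h
  let A : Sylow 11 G → Finset G := fun Q => (Finset.univ : Finset G).filter fun x => x ∈ (Q : Subgroup G) ∧ x ≠ 1
  have hA : ∀ Q, (A Q).card = 10 := by
    intro Q
    have h1 : ((Finset.univ : Finset G).filter fun x => x ∈ (Q : Subgroup G)).card = 11 := by
      refine Eq.trans ?_ (hc Q)
      rw [← Nat.card_eq_finsetCard]
      exact Nat.card_congr (Equiv.subtypeEquivRight fun x => by simp)
    have h2 : A Q = ((Finset.univ : Finset G).filter fun x => x ∈ (Q : Subgroup G)).erase 1 := by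
      ext x; simp [A, and_comm]
    rw [h2, Finset.card_erase_of_mem (by simp), h1]
  have hdisj : ((Finset.univ : Finset (Sylow 11 G)) : Set (Sylow 11 G)).PairwiseDisjoint A := by
    intro Q _ R _ hne
    rw [Function.onFun, Finset.disjoint_left]
    intro x hx hx'
    simp only [A, Finset.mem_filter, Finset.mem_univ, true_and] at hx hx'
    refine hne (Sylow.ext ?_)
    have e : ∀ T : Sylow 11 G, x ∈ (T : Subgroup G) → Subgroup.zpowers x = (T : Subgroup G) := fun T hT =>
      Subgroup.eq_of_le_of_card_ge (Subgroup.zpowers_le.mpr hT)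
        (by rw [Nat.card_zpowers, hord T x hT hx.2, hc T])
    exact (e Q hx.1).symm.trans (e R hx'.1)
  have h := Finset.card_biUnion hdisj
  simp only [hA, Finset.sum_const, Finset.card_univ, hn, smul_eq_mul] at h
  rw [show (120 : ℕ) = 12 * 10 from rfl, ← h]
  refine Finset.card_le_card fun x hx => ?_
  obtain ⟨Q, -, hx⟩ := Finset.mem_biUnion.mp hx
  simp only [A, Finset.mem_filter, Finset.mem_univ, true_and] at hx ⊢
  exact hord Q x hx.1 hx.2

end Cfsg.Lib.TwentyTwo
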