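import Cfsg.Agent.Lib.Perm.TwentyTwo.SmallSuborbit
import Cfsg.Agent.Lib.Perm.TwentyTwo.Order264

/-!
# No suborbit has length three or six
-/

set_option autoImplicit false
set_option linter.unusedSectionVars false

namespace Cfsg.Lib.TwentyTwo

open Equiv MulAction
open scoped Pointwise

variable {Ω : Type*} [Fintype Ω] [DecidableEq Ω]

/-- A permutation of prime order `q` fixes each point of a small invariant set. -/
theorem fix_of_small {g : Perm Ω} {q : ℕ} (hq : q.Prime) (hg : g ^ q = 1) (s : Finset Ω)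
    (hs : ∀ b ∈ s, g b ∈ s) (hlt : s.card < q) : ∀ b ∈ s, g b = b := by
  classical
  intro b hb
  let σ : Perm s := Equiv.ofBijective (fun x => ⟨g x, hs x x.2⟩)
    (Finite.injective_iff_bijective.mp fun x y h => Subtype.ext (g.injective (congrArg Subtype.val h)))
  have hσn : ∀ n (x : s), (((σ ^ n) x : s) : Ω) = (g ^ n) x := by
    intro n
    induction n with
    | zero => simp
    | succ n ih => intro x; rw [pow_succ, pow_succ, Perm.mul_apply, Perm.mul_apply, ih]; rfl
  have hσ : σ ^ q = 1 := Equiv.ext fun x => Subtype.ext (by rw [hσn, hg]; rfl)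
  rcases (Nat.dvd_prime hq).mp (orderOf_dvd_of_pow_eq_one hσ) with h | h
  · exact congrArg Subtype.val (congrArg (fun f : Perm s => f ⟨b, hb⟩) (orderOf_eq_one_iff.mp h))
  · have hd := orderOf_dvd_natCard σ
    rw [Nat.card_perm, Nat.card_eq_finsetCard, h] at hd
    exact absurd (hq.dvd_factorial.mp hd) (by omega)

variable (C : Conf Ω)
include C

theorem fixes_outSet {a₀ b₀ : Ω} (hne : a₀ ≠ b₀) (hd : (outSet C a₀ b₀ a₀).card ≤ 6) {q : ℕ} (hq : q.Prime)
    (hq5 : 5 ≤ q) {g : Perm Ω} (hg : g ^ q = 1) (hgH : g ∈ C.H) {a : Ω} (hga : g a = a) {b : Ω}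
    (hab : arc C a₀ b₀ a b) : g b = b := by
  classical
  have hgs : g ∈ stab C a := ⟨hgH, hga⟩
  set s := outSet C a₀ b₀ a
  have hs : s.card ≤ 6 := (card_outSet C a₀ b₀ a₀ a).trans_le hd
  have hinv : ∀ x ∈ C.P a, ∀ c ∈ s, x c ∈ s := fun x hx c hc =>
    outSet_invariant C a₀ b₀ a (P_le_stab C a hx) hc
  have h3 : ∀ c ∈ s, (pOrbit C a c).card = 3 := fun c hc =>
    card_pOrbit_three C (arc_ne hne ((mem_outSet C).mp hc)).symm hs hc hinv
  have hb : b ∈ s := (mem_outSet C).mpr hab
  have hgb : g b ∈ s := outSet_invariant C a₀ b₀ a hgs hb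
  have hggb : g (g b) ∈ s := outSet_invariant C a₀ b₀ a hgs hgb
  -- two of three orbits coincide
  have hkey : pOrbit C a (g (g b)) = pOrbit C a b := by
    by_cases h1 : pOrbit C a (g b) = pOrbit C a b
    · rw [← pOrbit_image C hgs, h1, pOrbit_image C hgs, h1]
    · have hdisj : Disjoint (pOrbit C a b) (pOrbit C a (g b)) := by
        rw [Finset.disjoint_left]
        intro c hc hc'
        exact h1 ((pOrbit_eq C hc').symm.trans (pOrbit_eq C hc))
      have hU : pOrbit C a b ∪ pOrbit C a (g b) = s :=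
        Finset.eq_of_subset_of_card_le
          (Finset.union_subset (pOrbit_subset C hb hinv) (pOrbit_subset C hgb hinv))
          (by rw [Finset.card_union_of_disjoint hdisj, h3 b hb, h3 _ hgb]; exact hs)
      rcases Finset.mem_union.mp (hU.symm ▸ hggb) with h | h
      · exact pOrbit_eq C h
      · exfalso
        have h' : (pOrbit C a (g b)).image g = pOrbit C a (g b) := by
          rw [pOrbit_image C hgs]; exact pOrbit_eq C h
        rw [← pOrbit_image C hgs b] at h'
        exact h1 ((pOrbit_image C hgs b).symm.trans (Finset.image_injective g.injective h'))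
  have hfix : (g * g) b = b := by
    refine fix_of_small hq (by rw [← sq, ← pow_mul, mul_comm, pow_mul, hg, one_pow]) (pOrbit C a b) ?_ ?_ b
      (self_mem_pOrbit C a b)
    · intro c hc
      have : g (g c) ∈ ((pOrbit C a b).image g).image g :=
        Finset.mem_image_of_mem _ (Finset.mem_image_of_mem _ hc)
      rwa [pOrbit_image C hgs, pOrbit_image C hgs, hkey] at this
    · rw [h3 b hb]; omega
  obtain ⟨k, hk⟩ := (hq.odd_of_ne_two (by omega))
  have : (g * g) ^ (k + 1) = g := by
    rw [← sq, ← pow_mul, show 2 * (k + 1) = q + 1 by omega, pow_succ, hg, one_mul]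
  rw [← this]
  exact Perm.pow_apply_eq_self_of_apply_eq_self hfix _

theorem not_dvd_stab_of_small {a₀ b₀ : Ω} (hne : a₀ ≠ b₀) (hd : (outSet C a₀ b₀ a₀).card ≤ 6) {q : ℕ}
    (hq : q.Prime) (hq5 : 5 ≤ q) : ¬ q ∣ Nat.card (stab C a₀) := by
  intro hdvd
  haveI := Fact.mk hq
  obtain ⟨g, hg⟩ := exists_prime_orderOf_dvd_card' q hdvd
  have hgq : (g : Perm Ω) ^ q = 1 := by
    rw [← hg, ← Subgroup.orderOf_coe]; exact pow_orderOf_eq_one _
  have hS := eq_univ_of_closed C hne (S := {x : Ω | (g : Perm Ω) x = x}) (s := a₀) g.2.2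
    (fun a b hab ha => fixes_outSet C hne hd hq hq5 hgq g.2.1 ha hab)
  have h1 : g = 1 := Subtype.ext (Equiv.ext fun x => Set.eq_univ_iff_forall.mp hS x)
  rw [h1, orderOf_one] at hg
  exact hq.one_lt.ne hg

theorem card_P_three_of_small {a₀ b₀ : Ω} (hne : a₀ ≠ b₀) (hd : (outSet C a₀ b₀ a₀).card ≤ 6) :
    Nat.card (C.P a₀) = 3 := by
  have h3 := card_pOrbit_three C hne.symm hd ((mem_outSet C).mpr (arc_refl a₀ b₀)) fun x hx c hc =>
    outSet_invariant C a₀ b₀ a₀ (P_le_stab C a₀ hx) hc
  have h := card_pOrbit_mul C a₀ b₀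
  rw [h3, inf_eq_bot_of_small C hne hd, Subgroup.card_bot, mul_one] at h
  exact h.symm

theorem no_small_suborbit (heven : ∀ g ∈ C.H, Perm.sign g = 1) {a₀ b₀ : Ω} (hne : a₀ ≠ b₀)
    (hd : (outSet C a₀ b₀ a₀).card ≤ 6) : False := by
  classical
  haveI : Fact (Nat.Prime 11) := ⟨by norm_num⟩
  have hP : ∀ a, Nat.card (C.P a) = 3 := fun a => (card_P C a a₀).trans (card_P_three_of_small C hne hd)
  obtain ⟨M, i, hi, hS, hM, -, hM2⟩ := small_structure C a₀ (hP a₀)
  have h5 : ¬ 5 ∣ M := fun h =>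
    not_dvd_stab_of_small C hne hd (q := 5) (by norm_num) le_rfl (hS ▸ h.mul_left _)
  have h7 : ¬ 7 ∣ M := fun h =>
    not_dvd_stab_of_small C hne hd (q := 7) (by norm_num) (by norm_num) (hS ▸ h.mul_left _)
  have hM16 : M ∣ 16 := by
    have h1 : Nat.Coprime M 5 := ((Nat.Prime.coprime_iff_not_dvd (by norm_num)).mpr h5).symm
    have h2 : Nat.Coprime M 7 := ((Nat.Prime.coprime_iff_not_dvd (by norm_num)).mpr h7).symm
    exact (Nat.Coprime.mul_right h1 h2).dvd_of_dvd_mul_left (show M ∣ (5 * 7) * 16 from hM)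
  obtain ⟨e, n, he, he1, hn11, hen, hcard⟩ := eleven_numbers C heven a₀
  have hkey : e = 2 ∧ n = 12 ∧ i * M = 4 ∧ 2 ∣ M := by
    have hMle := Nat.le_of_dvd (by norm_num) hM16
    have hele := Nat.le_of_dvd (by norm_num) he
    rw [hS] at hen
    interval_cases e <;> first | omega | (revert he; norm_num) | skip
    all_goals
      interval_cases M <;> first | (revert hM16; norm_num; done) | (rcases hi with rfl | rfl <;> omega)
  obtain ⟨rfl, rfl, hiM, h2M⟩ := hkey
  have hH : Nat.card C.H = 264 := by rw [card_H C a₀, hS, mul_assoc 3 i M, hiM]; norm_num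
  -- elements of order six
  have hsix : ∀ a, ∃ x w : C.H, orderOf x = 3 ∧ (x : Perm Ω) ∈ C.P a ∧ orderOf w = 6 ∧ w ^ 2 = x := by
    intro a
    obtain ⟨M', i', hi', hS', hM', -, hM2'⟩ := small_structure C a (hP a)
    have h2 : 2 ∣ M' := by
      have hc : Nat.card (stab C a) = 12 := by
        have := card_H C a
        omega
      have hc' : 3 * i' * M' = 12 := hS'.symm.trans hc
      rcases hi' with rfl | rfl <;> omega
    obtain ⟨x, z, hxP, hx, hz, hzo, hzx⟩ := hM2' h2
    refine ⟨⟨x, C.le a hxP⟩ ^ 2, ⟨z, hz.1⟩ * ⟨x, C.le a hxP⟩, ?_, (C.P a).pow_mem hxP 2, ?_, ?_⟩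
    · rw [Nat.Coprime.orderOf_pow (by rw [Subgroup.orderOf_mk, hx]; decide), Subgroup.orderOf_mk, hx]
    · rw [Commute.orderOf_mul_eq_mul_orderOf_of_coprime (Subtype.ext hzx.eq)] <;>
        simp only [Subgroup.orderOf_mk, hx, hzo]
      decide
    · rw [(show Commute (⟨z, hz.1⟩ : C.H) ⟨x, C.le a hxP⟩ from Subtype.ext hzx.eq).mul_pow]
      have : (⟨z, hz.1⟩ : C.H) ^ 2 = 1 := Subtype.ext (by
        rw [Subgroup.coe_pow, ← hzo]; exact pow_orderOf_eq_one z)
      rw [this, one_mul]
  choose x w hxo hxP hwo hwx using hsix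
  have hsep : ∀ a b, ∀ u : Perm Ω, u ∈ C.P a → u ∈ C.P b → orderOf u = 3 → a = b := by
    intro a b u hua hub hu
    refine C.only b a fun v hv => ?_
    have hz : Subgroup.zpowers u = C.P b :=
      Subgroup.eq_of_le_of_card_ge (Subgroup.zpowers_le.mpr hub) (by rw [Nat.card_zpowers, hu, hP])
    have hza : v ∈ C.P a := Subgroup.zpowers_le.mpr hua (hz ▸ hv)
    exact C.fix_self a v hza
  -- both generators
  have hinj : ∀ (f : C.H → Fin 2 → C.H), (∀ a j, orderOf (f (x a) j) = 3 ∧ (f (x a) j : Perm Ω) ∈ C.P a) →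
      (∀ a, f (x a) 0 ≠ f (x a) 1) → Function.Injective fun p : Ω × Fin 2 => f (x p.1) p.2 := by
    intro f hf hne2
    rintro ⟨a, j⟩ ⟨b, k⟩ h
    simp only at h
    have hab : a = b := hsep a b _ (hf a j).2 (h ▸ (hf b k).2) (by rw [Subgroup.orderOf_coe]; exact (hf a j).1)
    subst hab
    refine Prod.ext rfl ?_
    fin_cases j <;> fin_cases k <;> first | rfl | exact absurd h (hne2 a) | exact absurd h.symm (hne2 a)
  have hne3 : ∀ a, x a ≠ (x a)⁻¹ := fun a h => by
    have h2 : x a ^ 2 = 1 := by rw [sq]; exact mul_eq_one_iff_eq_inv.mpr h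
    have := orderOf_dvd_of_pow_eq_one h2
    rw [hxo] at this
    norm_num at this
  haveI := Fintype.ofFinite C.H
  have h3 : 44 ≤ ((Finset.univ : Finset C.H).filter fun g => orderOf g = 3).card := by
    have h := Finset.card_le_card_of_injOn (fun p : Ω × Fin 2 => (![x p.1, (x p.1)⁻¹] p.2))
      (s := Finset.univ) (t := (Finset.univ : Finset C.H).filter fun g => orderOf g = 3) (fun p _ => by
        obtain ⟨a, j⟩ := p
        fin_cases j <;> simp [hxo])
      (hinj (fun g j => ![g, g⁻¹] j) (fun a j => by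
        fin_cases j <;> simp [hxo, hxP, (C.P a).inv_mem (hxP a)]) (fun a => hne3 a)).injOn
    rw [Finset.card_univ, Fintype.card_prod, C.card_eq, Fintype.card_fin] at h
    exact h
  have h6 : 44 ≤ ((Finset.univ : Finset C.H).filter fun g => orderOf g = 6).card := by
    have hsq := hinj (fun g j => ![g, g⁻¹] j) (fun a j => by
        fin_cases j <;> simp [hxo, hxP, (C.P a).inv_mem (hxP a)]) (fun a => hne3 a)
    have hinj6 : Function.Injective fun p : Ω × Fin 2 => (![w p.1, (w p.1)⁻¹] p.2) := by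
      intro p p' h
      refine hsq ?_
      have h' := congrArg (fun g : C.H => g ^ 2) h
      obtain ⟨a, j⟩ := p
      obtain ⟨b, k⟩ := p'
      fin_cases j <;> fin_cases k <;> simpa [inv_pow, hwx] using h'
    have h := Finset.card_le_card_of_injOn (fun p : Ω × Fin 2 => (![w p.1, (w p.1)⁻¹] p.2))
      (s := Finset.univ) (t := (Finset.univ : Finset C.H).filter fun g => orderOf g = 6) (fun p _ => by
        obtain ⟨a, j⟩ := p
        fin_cases j <;> simp [hwo]) hinj6.injOn
    rw [Finset.card_univ, Fintype.card_prod, C.card_eq, Fintype.card_fin] at h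
    exact h
  have hc : ∀ Q : Sylow 11 C.H, Nat.card Q = 11 := card_sylow_eleven C
  have hN : ∀ Q : Sylow 11 C.H, Nat.card (Subgroup.normalizer ((Q : Subgroup C.H) : Set C.H)) = 22 := by
    intro Q
    have h := Subgroup.card_mul_index (Subgroup.normalizer ((Q : Subgroup C.H) : Set C.H))
    rw [show (Subgroup.normalizer ((Q : Subgroup C.H) : Set C.H)).index = Nat.card (Sylow 11 C.H) from
      Q.card_eq_index_normalizer.symm, hcard, hH] at h
    omega
  have h2 := involutions_ge hH.le hc (centralizer_eleven C heven) hN hcard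
  have h11 := eleven_elements hc hcard
  have hsum : ((Finset.univ : Finset C.H).filter fun g => orderOf g = 2).card +
      ((Finset.univ : Finset C.H).filter fun g => orderOf g = 3).card +
      ((Finset.univ : Finset C.H).filter fun g => orderOf g = 6).card +
      ((Finset.univ : Finset C.H).filter fun g => orderOf g = 11).card ≤ 264 := by
    rw [← Finset.card_union_of_disjoint, ← Finset.card_union_of_disjoint, ← Finset.card_union_of_disjoint]
    · rw [← hH, Nat.card_eq_fintype_card]
      exact Finset.card_le_univ _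
    all_goals
      simp only [Finset.disjoint_left, Finset.mem_union, Finset.mem_filter, Finset.mem_univ, true_and]
      intro g hg hg'
      omega
  omega

end Cfsg.Lib.TwentyTwo
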