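import Cfsg.Agent.Lib.Perm.TwentyTwo.Eleven

/-!
# The structure of the stabiliser when the Sylow `3`-subgroups have order three
-/

set_option autoImplicit false
set_option linter.unusedSectionVars false

namespace Cfsg.Lib.TwentyTwo

open Equiv MulAction
open scoped Pointwise

/-- A subgroup of `S₇` of order prime to three and divisible by seven has order divisible neither by 16
nor by 35. -/
theorem seven_subgroup {α : Type*} [Fintype α] [DecidableEq α] (hα : Fintype.card α = 7)
    (M : Subgroup (Perm α)) (h7 : 7 ∣ Nat.card M) (h3 : ¬ 3 ∣ Nat.card M) :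
    ¬ 16 ∣ Nat.card M ∧ ¬ 35 ∣ Nat.card M := by
  classical
  haveI : Fact (Nat.Prime 7) := ⟨by norm_num⟩
  haveI : Fact (Nat.Prime 5) := ⟨by norm_num⟩
  haveI : Fact (Nat.Prime 2) := ⟨by norm_num⟩
  have hS : Nat.card (Perm α) = 5040 := by
    rw [Nat.card_perm, Nat.card_eq_fintype_card, hα]; rfl
  refine ⟨fun h16 => ?_, fun h35 => ?_⟩
  · -- it would contain a Sylow 2-subgroup, hence a transposition
    obtain ⟨P⟩ : Nonempty (Sylow 2 M) := inferInstance
    obtain ⟨j, hj⟩ := IsPGroup.iff_card.mp P.2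
    have hpos : 0 < j ∨ j = 0 := by omega
    set R := (P : Subgroup M).map M.subtype with hR
    have hRc : Nat.card R = 2 ^ j := by
      rw [← hj]
      exact (Nat.card_congr ((P : Subgroup M).equivMapOfInjective _ M.subtype_injective).toEquiv).symm
    have h16R : 16 ∣ Nat.card R := by
      rw [hRc, ← hj]
      have hco : Nat.Coprime 16 (P : Subgroup M).index :=
        (Nat.Coprime.pow_left 4 ((Nat.Prime.coprime_iff_not_dvd Nat.prime_two).mpr P.not_dvd_index) : Nat.Coprime (2 ^ 4) _)
      exact hco.dvd_of_dvd_mul_right (by rw [Subgroup.card_mul_index]; exact h16)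
    obtain ⟨S, hS'⟩ := IsPGroup.exists_le_sylow (P.2.map M.subtype)
    obtain ⟨a, b, hab⟩ : ∃ a b : α, a ≠ b :=
      Fintype.exists_pair_of_one_lt_card (by rw [hα]; norm_num)
    have ht : IsPGroup 2 (Subgroup.zpowers (Equiv.swap a b)) := IsPGroup.of_card (n := 1) (by
      rw [Nat.card_zpowers, pow_one]
      exact orderOf_eq_prime (by rw [sq]; exact Equiv.swap_mul_self a b) (fun h => hab (by
        simpa using congrArg (fun f : Perm α => f b) h)))
    obtain ⟨T, hT⟩ := ht.exists_le_sylow
    obtain ⟨g, hg⟩ := MulAction.exists_smul_eq (Perm α) T S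
    have hSR : (S : Subgroup (Perm α)) = R := by
      refine (Subgroup.eq_of_le_of_card_ge hS' ?_).symm
      obtain ⟨i, hi⟩ := IsPGroup.iff_card.mp S.2
      have hdvd := Subgroup.card_subgroup_dvd_card (S : Subgroup (Perm α))
      rw [hi, hS] at hdvd
      have hi4 : i ≤ 4 := by
        by_contra h
        exact absurd ((Nat.pow_dvd_pow 2 (show 5 ≤ i by omega)).trans hdvd) (by norm_num)
      rw [hi]
      exact le_trans (Nat.pow_le_pow_right two_pos hi4) (Nat.le_of_dvd Nat.card_pos h16R)
    have hmem : g * Equiv.swap a b * g⁻¹ ∈ M := by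
      have h1 : g * Equiv.swap a b * g⁻¹ ∈ ((g • T : Sylow 2 (Perm α)) : Subgroup (Perm α)) := by
        rw [Sylow.coe_subgroup_smul]
        exact ⟨_, hT (Subgroup.mem_zpowers _), rfl⟩
      rw [hg, hSR] at h1
      exact Subgroup.map_subtype_le _ h1
    have htop := Equiv.Perm.subgroup_eq_top_of_swap_mem (H := M) (by rw [hα]; norm_num)
      (by rw [hα, ← Nat.card_eq_fintype_card]; exact h7) hmem ⟨g a, g b, g.injective.ne hab, by
        rw [Equiv.swap_apply_apply]⟩
    rw [htop, Subgroup.card_top, hS] at h3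
    exact h3 (by norm_num)
  · -- the normaliser of a Sylow 7-subgroup would contain an element of order five
    obtain ⟨P⟩ : Nonempty (Sylow 7 M) := inferInstance
    have hdvd := Subgroup.card_subgroup_dvd_card M
    rw [hS] at hdvd
    have hP : Nat.card P = 7 := by
      obtain ⟨j, hj⟩ := IsPGroup.iff_card.mp P.2
      have h1 := (Subgroup.card_subgroup_dvd_card (P : Subgroup M)).trans hdvd
      rw [hj] at h1
      have h2 : 7 ^ 1 ∣ Nat.card P := by
        rw [pow_one]
        exact ((Nat.Prime.coprime_iff_not_dvd (by norm_num)).mpr P.not_dvd_index).dvd_of_dvd_mul_right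
          (by rw [Subgroup.card_mul_index]; exact h7)
      rw [hj] at h2 ⊢
      rcases (show j = 0 ∨ j = 1 ∨ 2 ≤ j by omega) with rfl | rfl | h
      · norm_num at h2
      · rfl
      · exact absurd ((Nat.pow_dvd_pow 7 h).trans h1) (by norm_num)
    set N := Subgroup.normalizer ((P : Subgroup M) : Set M)
    have hN5 : 5 ∣ Nat.card N := by
      have h1 := Subgroup.card_mul_index N
      have h2 := card_sylow_modEq_one 7 M
      have h3' : Nat.card (Sylow 7 M) = N.index := P.card_eq_index_normalizer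
      rw [Nat.ModEq, h3'] at h2
      by_contra h5
      have h5i : 5 ∣ N.index := by
        have h55 : 5 ∣ Nat.card N * N.index := h1 ▸ (dvd_trans (by norm_num) h35)
        exact ((Nat.Prime.dvd_mul (by norm_num)).mp h55).resolve_left h5
      have h3i : ¬ 3 ∣ N.index := fun h => h3 (h1 ▸ h.mul_left _)
      have h7N : 7 ∣ Nat.card N := hP ▸ Subgroup.card_dvd_of_le Subgroup.le_normalizer
      have h720 : N.index ∣ 720 := by
        obtain ⟨c, hc⟩ := h7N
        have : 7 * (c * N.index) ∣ 7 * 720 := by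
          rw [← mul_assoc, ← hc, h1]; exact hdvd
        exact (dvd_mul_left _ c).trans (Nat.dvd_of_mul_dvd_mul_left (by norm_num) this)
      have h80 : N.index ∣ 80 := by
        have hco : Nat.Coprime N.index (3 ^ 2) :=
          (Nat.Coprime.pow_left 2 ((Nat.Prime.coprime_iff_not_dvd Nat.prime_three).mpr h3i)).symm
        exact hco.dvd_of_dvd_mul_left (show N.index ∣ 3 ^ 2 * 80 from h720)
      generalize N.index = x at h2 h5i h80
      have := Nat.le_of_dvd (by norm_num) h80
      interval_cases x <;> first | omega | (revert h80; norm_num)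
    obtain ⟨y, hy⟩ := exists_prime_orderOf_dvd_card' (G := N) 5 hN5
    obtain ⟨σ, hσ⟩ := exists_prime_orderOf_dvd_card' (G := (P : Subgroup M)) 7 (by rw [hP])
    set s : Perm α := ((σ : M) : Perm α) with hs
    set w : Perm α := ((y : M) : Perm α) with hw
    have hsord : orderOf s = 7 := by
      rw [hs, Subgroup.orderOf_coe, Subgroup.orderOf_coe]; exact hσ
    have hword : orderOf w = 5 := by
      rw [hw, Subgroup.orderOf_coe, Subgroup.orderOf_coe]; exact hy
    have hPz : (P : Subgroup M).map M.subtype = Subgroup.zpowers s := by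
      refine (Subgroup.eq_of_le_of_card_ge ?_ (le_of_eq ?_)).symm
      · rw [Subgroup.zpowers_le]; exact ⟨_, σ.2, rfl⟩
      · rw [Nat.card_zpowers, hsord,
          ← Nat.card_congr ((P : Subgroup M).equivMapOfInjective _ M.subtype_injective).toEquiv]
        exact hP
    have hconj : ∀ v ∈ Subgroup.zpowers s, w * v * w⁻¹ ∈ Subgroup.zpowers s := by
      intro v hv
      rw [← hPz] at hv ⊢
      obtain ⟨x, hx, rfl⟩ := hv
      exact ⟨_, (Subgroup.mem_normalizer_iff.mp y.2 x).mp hx, rfl⟩
    obtain ⟨k, hk⟩ : ∃ k : ℕ, s ^ k = w * s * w⁻¹ :=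
      (mem_powers_iff_mem_zpowers).mpr (hconj s (Subgroup.mem_zpowers s))
    have hiter : ∀ j : ℕ, w ^ j * s * (w ^ j)⁻¹ = s ^ (k ^ j) := by
      intro j
      induction j with
      | zero => simp
      | succ j ih =>
        calc w ^ (j + 1) * s * (w ^ (j + 1))⁻¹ = w * (w ^ j * s * (w ^ j)⁻¹) * w⁻¹ := by
              rw [pow_succ']; group
          _ = (w * s * w⁻¹) ^ (k ^ j) := by rw [ih, conj_pow]
          _ = s ^ (k ^ (j + 1)) := by rw [← hk, ← pow_mul, pow_succ']
    have h5' := hiter 5
    rw [← hword, pow_orderOf_eq_one, one_mul, inv_one, mul_one, hword] at h5'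
    have hk1 : s ^ k = s := by
      have h5m : 1 ≡ k ^ 5 [MOD 7] := by
        rw [← hsord, ← pow_eq_pow_iff_modEq, pow_one]
        exact h5'
      suffices hk' : k ≡ 1 [MOD 7] by
        calc s ^ k = s ^ 1 := pow_eq_pow_iff_modEq.mpr (by rw [hsord]; exact hk')
          _ = s := pow_one s
      have hkm : k % 7 < 7 := Nat.mod_lt _ (by norm_num)
      rw [Nat.ModEq, Nat.pow_mod] at h5m
      rw [Nat.ModEq]
      generalize k % 7 = r at h5m hkm
      interval_cases r <;> first | rfl | (exfalso; revert h5m; decide)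
    have hcomm : Commute w s := by
      rw [hk1] at hk
      rw [Commute, SemiconjBy]
      nth_rewrite 2 [hk]
      group
    -- a full cycle is its own centraliser
    have hscyc : s.IsCycle := Perm.isCycle_of_prime_order'' (by rw [hα]; norm_num) (by rw [hsord, hα])
    have hsupp : s.support = Finset.univ := Finset.eq_univ_of_card _ (by
      rw [← hscyc.orderOf, hsord, hα])
    obtain ⟨a⟩ : Nonempty α := Fintype.card_pos_iff.mp (by rw [hα]; norm_num)
    obtain ⟨i, hi⟩ : ∃ i : ℤ, (s ^ i) a = w a :=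
      hscyc.sameCycle (Perm.mem_support.mp (hsupp ▸ Finset.mem_univ a)) (Perm.mem_support.mp (hsupp ▸ Finset.mem_univ _))
    have hwi : w = s ^ i := by
      ext b
      obtain ⟨j, hj⟩ : ∃ j : ℤ, (s ^ j) a = b :=
        hscyc.sameCycle (Perm.mem_support.mp (hsupp ▸ Finset.mem_univ a)) (Perm.mem_support.mp (hsupp ▸ Finset.mem_univ _))
      rw [← hj, ← Perm.mul_apply, (hcomm.zpow_right j).eq, Perm.mul_apply, ← hi, ← Perm.mul_apply,
        ← Perm.mul_apply, ← zpow_add, ← zpow_add, add_comm]
    have hwd : orderOf w ∣ 7 := by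
      rw [hwi, ← hsord]
      exact orderOf_dvd_of_mem_zpowers (Subgroup.zpow_mem _ (Subgroup.mem_zpowers s) i)
    rw [hword] at hwd
    norm_num at hwd

variable {Ω : Type*} [Fintype Ω] [DecidableEq Ω] (C : Conf Ω)
include C

theorem nine_not_dvd (a : Ω) (h3 : Nat.card (C.P a) = 3) : ¬ 9 ∣ Nat.card (stab C a) := by
  haveI := Fact.mk Nat.prime_three
  intro h9
  obtain ⟨K, hK⟩ := Sylow.exists_subgroup_card_pow_prime (G := stab C a) 3 (n := 2) h9
  have hle : K.map (stab C a).subtype ≤ C.P a := by
    rintro _ ⟨x, hx, rfl⟩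
    refine C.mem_of a _ x.2.1 x.2.2 ⟨2, ?_⟩
    have h := pow_card_eq_one' (G := K) (x := ⟨x, hx⟩)
    rw [hK] at h
    simpa using congrArg (fun u : K => ((u : stab C a) : Perm Ω)) h
  have h := Subgroup.card_le_of_le hle
  rw [h3, ← Nat.card_congr (K.equivMapOfInjective _ (stab C a).subtype_injective).toEquiv, hK] at h
  norm_num at h

/-- The structure of the stabiliser when `|P a| = 3`. -/
theorem small_structure (a : Ω) (h3 : Nat.card (C.P a) = 3) : ∃ M i : ℕ, (i = 1 ∨ i = 2) ∧
    Nat.card (stab C a) = 3 * i * M ∧ M ∣ 560 ∧ (7 ∣ M → ¬ 16 ∣ M ∧ ¬ 35 ∣ M) ∧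
    (2 ∣ M → ∃ x z : Perm Ω, x ∈ C.P a ∧ orderOf x = 3 ∧ z ∈ stab C a ∧ orderOf z = 2 ∧ Commute z x) := by
  classical
  haveI := Fact.mk Nat.prime_three
  haveI : IsCyclic (C.P a) := isCyclic_of_prime_card h3
  obtain ⟨⟨u, hu⟩, hgen⟩ := IsCyclic.exists_generator (α := C.P a)
  have hgen' : ∀ x ∈ C.P a, ∃ i : ℤ, u ^ i = x := by
    intro x hx
    obtain ⟨i, hi⟩ := hgen ⟨x, hx⟩
    exact ⟨i, by simpa using congrArg Subtype.val hi⟩
  have hu3 : u ^ 3 = 1 := by
    have h := pow_card_eq_one' (G := C.P a) (x := ⟨u, hu⟩)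
    rw [h3] at h
    exact congrArg Subtype.val h
  have huord : orderOf u = 3 := orderOf_eq_prime hu3 (by
    intro h
    refine P_ne_bot C a (Subgroup.eq_bot_iff_forall _ |>.mpr fun x hx => ?_)
    obtain ⟨i, rfl⟩ := hgen' x hx
    rw [h, one_zpow])
  have hufree : ∀ b, b ≠ a → u b ≠ b := by
    intro b hb hub
    refine hb (C.only a b fun x hx => ?_)
    obtain ⟨i, rfl⟩ := hgen' x hx
    exact Perm.zpow_apply_eq_self_of_apply_eq_self hub i
  have hua : u a = a := C.fix_self a u hu
  -- the orbits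
  let O : Ω → Finset Ω := fun b => {b, u b, u (u b)}
  have hu3' : ∀ b, u (u (u b)) = b := fun b => by
    simpa [pow_succ, Perm.mul_apply] using congrArg (fun f : Perm Ω => f b) hu3
  have hOu : ∀ b x, x ∈ O b → O x = O b := by
    intro b x hx
    simp only [O, Finset.mem_insert, Finset.mem_singleton] at hx
    rcases hx with rfl | rfl | rfl
    · rfl
    · ext y; simp [O, hu3']; tauto
    · ext y; simp [O, hu3']; tauto
  have hOc : ∀ b, b ≠ a → (O b).card = 3 := by
    intro b hb
    have h1 := hufree b hb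
    have h2 : u (u b) ≠ b := fun h => h1 (by
      nth_rewrite 2 [← hu3' b]
      rw [h])
    have h2' : u (u b) ≠ u b := fun h => h1 (u.injective h)
    simp [O, h1.symm, h2.symm, h2'.symm]
  let 𝒪 : Finset (Finset Ω) := ((Finset.univ : Finset Ω).erase a).image O
  have hcard : 𝒪.card = 7 := by
    have h := Finset.card_eq_sum_card_image O ((Finset.univ : Finset Ω).erase a)
    rw [Finset.card_erase_of_mem (Finset.mem_univ a), card_univ' C] at h
    have h' : ∀ B ∈ 𝒪, (((Finset.univ : Finset Ω).erase a).filter fun x => O x = B).card = 3 := by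
      intro B hB
      obtain ⟨b, hb, rfl⟩ := Finset.mem_image.mp hB
      have hb' := Finset.ne_of_mem_erase hb
      rw [show ((Finset.univ : Finset Ω).erase a).filter (fun x => O x = O b) = O b from ?_, hOc b hb']
      ext x
      simp only [Finset.mem_filter, Finset.mem_erase, Finset.mem_univ, and_true]
      refine ⟨fun h => h.2 ▸ Finset.mem_insert_self _ _, fun h => ⟨?_, hOu b x h⟩⟩
      intro hxa
      apply hb'
      simp only [O, Finset.mem_insert, Finset.mem_singleton] at h
      rw [hxa] at h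
      rcases h with h | h | h
      · exact h.symm
      · exact u.injective (h.symm.trans hua.symm)
      · exact u.injective ((u.injective (h.symm.trans hua.symm)).trans hua.symm)
    rw [Finset.sum_congr rfl h', Finset.sum_const, smul_eq_mul] at h
    change 22 - 1 = 𝒪.card * 3 at h
    omega
  -- the centraliser of the Sylow subgroup
  set Cz := stab C a ⊓ Subgroup.centralizer ({u} : Set (Perm Ω))
  have hcomm : ∀ g ∈ Cz, ∀ b, g (u b) = u (g b) := by
    intro g hg b
    rw [← Perm.mul_apply, ← Perm.mul_apply, Subgroup.mem_centralizer_singleton_iff.mp hg.2]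
  have himg : ∀ g ∈ Cz, ∀ b, (O b).image g = O (g b) := by
    intro g hg b
    simp [O, Finset.image_insert, hcomm g hg]
  have hmem : ∀ g : Cz, ∀ B ∈ 𝒪, B.image (g : Perm Ω) ∈ 𝒪 := by
    intro g B hB
    obtain ⟨b, hb, rfl⟩ := Finset.mem_image.mp hB
    rw [himg g g.2]
    refine Finset.mem_image_of_mem O (Finset.mem_erase.mpr ⟨fun h => Finset.ne_of_mem_erase hb ?_, Finset.mem_univ _⟩)
    exact (g : Perm Ω).injective (h.trans g.2.1.2.symm)
  letI : MulAction Cz 𝒪 :=
    { smul := fun g B => ⟨(B : Finset Ω).image (g : Perm Ω), hmem g B B.2⟩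
      one_smul := fun B => Subtype.ext Finset.image_id
      mul_smul := fun g h B => Subtype.ext (by
        show (B : Finset Ω).image ((g * h : Cz) : Perm Ω) = ((B : Finset Ω).image (h : Perm Ω)).image (g : Perm Ω)
        rw [Finset.image_image]; rfl) }
  set ψ : Cz →* Perm 𝒪 := MulAction.toPermHom Cz 𝒪
  have hker : Nat.card ψ.ker = 3 := by
    have hu' : u ∈ Cz := ⟨P_le_stab C a hu, Subgroup.mem_centralizer_singleton_iff.mpr rfl⟩
    have heq : ψ.ker.map Cz.subtype = C.P a := by
      refine le_antisymm ?_ ?_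
      · rintro _ ⟨g, hg, rfl⟩
        refine C.mem_of a _ g.2.1.1 g.2.1.2 ⟨1, ?_⟩
        ext b
        by_cases hb : b = a
        · subst hb
          exact Perm.pow_apply_eq_self_of_apply_eq_self g.2.1.2 _
        · have hB : (O b).image (g : Perm Ω) = O b :=
            congrArg (fun f : Perm 𝒪 => ((f ⟨O b, Finset.mem_image_of_mem O (Finset.mem_erase.mpr ⟨hb, Finset.mem_univ _⟩)⟩ : 𝒪) : Finset Ω)) hg
          have hgb : (g : Perm Ω) b ∈ O b := hB ▸ Finset.mem_image_of_mem _ (Finset.mem_insert_self _ _)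
          simp only [O, Finset.mem_insert, Finset.mem_singleton] at hgb
          have hc1 := hcomm g g.2
          simp only [pow_succ, pow_zero, one_mul, Perm.mul_apply, pow_one, Subgroup.subtype_apply]
          rcases hgb with h | h | h
          · simp [h]
          · simp [h, hc1, hu3']
          · simp [h, hc1, hu3']
      · intro x hx
        obtain ⟨i, rfl⟩ := hgen' x hx
        refine ⟨(⟨u, hu'⟩ : Cz) ^ i, zpow_mem ?_ i, by simp⟩
        rw [MonoidHom.mem_ker]
        ext ⟨B, hB⟩ : 1
        obtain ⟨b, -, rfl⟩ := Finset.mem_image.mp hB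
        apply Subtype.ext
        show (O b).image u = O b
        rw [himg u hu']
        exact hOu b _ (Finset.mem_insert_of_mem (Finset.mem_insert_self _ _))
    rw [← h3, ← heq]
    exact Nat.card_congr (ψ.ker.equivMapOfInjective _ Cz.subtype_injective).toEquiv
  have h1 := Subgroup.card_mul_index ψ.ker
  rw [Subgroup.index_ker, hker] at h1
  -- the index of the centraliser
  haveI : ((C.P a).subgroupOf (stab C a)).Normal := ⟨fun x hx g => conj_mem_P C g.2 hx⟩
  let θ : stab C a →* MulAut ((C.P a).subgroupOf (stab C a)) := MulAut.conjNormal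
  have hθ : θ.ker = Cz.subgroupOf (stab C a) := by
    ext g
    rw [MonoidHom.mem_ker, Subgroup.mem_subgroupOf]
    constructor
    · intro h
      refine ⟨g.2, Subgroup.mem_centralizer_singleton_iff.mpr ?_⟩
      have h' := congrArg (fun f : MulAut ((C.P a).subgroupOf (stab C a)) =>
        (((f ⟨⟨u, P_le_stab C a hu⟩, hu⟩ : (C.P a).subgroupOf (stab C a)) : stab C a) : Perm Ω)) h
      simp only [θ, MulAut.conjNormal_apply, Subgroup.coe_mul, InvMemClass.coe_inv, MulAut.one_apply] at h'
      exact mul_inv_eq_iff_eq_mul.mp h'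
    · intro h
      ext ⟨x, hx⟩
      obtain ⟨i, hi⟩ := hgen' x hx
      simp only [θ, MulAut.conjNormal_apply, MulAut.one_apply, Subgroup.coe_mul, InvMemClass.coe_inv]
      have hc : Commute (g : Perm Ω) (x : Perm Ω) := by
        rw [← hi]
        exact (Subgroup.mem_centralizer_singleton_iff.mp h.2 : (g : Perm Ω) * u = u * g) |> fun e =>
          (show Commute (g : Perm Ω) u from e).zpow_right i
      rw [hc.eq, mul_inv_cancel_right]
  have hcP : Nat.card ((C.P a).subgroupOf (stab C a)) = 3 :=
    (Nat.card_congr (Subgroup.subgroupOfEquivOfLe (P_le_stab C a)).toEquiv).trans h3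
  have hi : Nat.card θ.range ∣ 2 := by
    haveI : IsCyclic ((C.P a).subgroupOf (stab C a)) := isCyclic_of_prime_card hcP
    have hA : Nat.card (MulAut ((C.P a).subgroupOf (stab C a))) = 2 := by
      rw [IsCyclic.card_mulAut, hcP, Nat.totient_prime Nat.prime_three]
    exact hA ▸ Subgroup.card_subgroup_dvd_card _
  have h2 := Subgroup.card_mul_index θ.ker
  rw [Subgroup.index_ker, hθ, Nat.card_congr (Subgroup.subgroupOfEquivOfLe (show Cz ≤ stab C a from inf_le_left)).toEquiv,
    ← h1] at h2
  refine ⟨Nat.card ψ.range, Nat.card θ.range, (Nat.dvd_prime Nat.prime_two).mp hi, by rw [← h2]; ring, ?_, ?_, ?_⟩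
  all_goals
    have h3M : ¬ 3 ∣ Nat.card ψ.range := fun h => nine_not_dvd C a h3 (by
      rw [← h2]; exact (Nat.mul_dvd_mul_left 3 h).mul_right _)
  · have hdvd : Nat.card ψ.range ∣ 5040 := by
      have h := Subgroup.card_subgroup_dvd_card ψ.range
      rwa [Nat.card_perm, Nat.card_eq_finsetCard, hcard] at h
    have hco : Nat.Coprime (Nat.card ψ.range) (3 ^ 2) :=
      (Nat.Coprime.pow_left 2 ((Nat.Prime.coprime_iff_not_dvd Nat.prime_three).mpr h3M)).symm
    exact hco.dvd_of_dvd_mul_left (show Nat.card ψ.range ∣ 3 ^ 2 * 560 from hdvd)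
  · exact fun h7 => seven_subgroup (by rw [Fintype.card_coe, hcard]) ψ.range h7 h3M
  · intro h2M
    haveI := Fact.mk Nat.prime_two
    obtain ⟨z, hz⟩ := exists_prime_orderOf_dvd_card' (G := Cz) 2 (h1 ▸ h2M.mul_left 3)
    exact ⟨u, (z : Perm Ω), hu, huord, z.2.1, by rw [Subgroup.orderOf_coe]; exact hz,
      Subgroup.mem_centralizer_singleton_iff.mp z.2.2⟩

end Cfsg.Lib.TwentyTwo
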