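import Cfsg.Agent.Lib.Perm.TwentyTwo.Orbits
import Cfsg.Agent.Lib.Perm.PrimeDegree

/-!
# A suborbit of length three or six forces the Sylow subgroups to have order three
-/

set_option autoImplicit false
set_option linter.unusedSectionVars false

namespace Cfsg.Lib.TwentyTwo

open Equiv MulAction
open scoped Pointwise

theorem eq_one_of_cube : ∀ z : ZMod 11, z * z * z = 1 → z = 1 := by decide

theorem eq_zero_of_three_mul : ∀ z : ZMod 11, 3 * z = 0 → z = 0 := by decide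

variable {Ω : Type*} [Fintype Ω] [DecidableEq Ω] (C : Conf Ω)
include C

/-- Conjugation of subgroups. -/
noncomputable def cj (g : Perm Ω) (D : Subgroup (Perm Ω)) : Subgroup (Perm Ω) :=
  D.map (MulAut.conj g).toMonoidHom

omit C in
theorem cj_mul (g h : Perm Ω) (D : Subgroup (Perm Ω)) : cj (g * h) D = cj g (cj h D) := by
  rw [cj, cj, cj, Subgroup.map_map]
  refine congrArg (fun f => D.map f) (MonoidHom.ext fun x => ?_)
  simp [MulAut.conj_apply, mul_assoc]

omit C in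
theorem cj_one (D : Subgroup (Perm Ω)) : cj 1 D = D := by
  ext x; simp [cj]

omit C in
theorem cj_injective (g : Perm Ω) : Function.Injective (cj (Ω := Ω) g) :=
  Subgroup.map_injective (f := (MulAut.conj g).toMonoidHom) (MulAut.conj g).injective

theorem inf_eq_bot_of_small {a₀ b₀ : Ω} (hne : a₀ ≠ b₀) (hd : (outSet C a₀ b₀ a₀).card ≤ 6) :
    C.P a₀ ⊓ C.P b₀ = ⊥ := by
  classical
  haveI := Fact.mk Nat.prime_three
  haveI : Fact (Nat.Prime 11) := ⟨by norm_num⟩
  by_contra hD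
  set d := (outSet C a₀ b₀ a₀).card with hdef
  have hout : ∀ a, (outSet C a₀ b₀ a).card = d := fun a => card_outSet C a₀ b₀ a₀ a
  have hin : ∀ b, (inSet C a₀ b₀ b).card = d := fun b => card_inSet_eq C a₀ b₀ a₀ b
  have hd0 : 0 < d := Finset.card_pos.mpr ⟨b₀, (mem_outSet C).mpr (arc_refl a₀ b₀)⟩
  let f : Ω → Ω → Subgroup (Perm Ω) := fun a b => C.P a ⊓ C.P b
  have hf : ∀ g ∈ C.H, ∀ a b, f (g a) (g b) = cj g (f a b) := fun g hg a b => inf_smul C hg a b
  let 𝒰 : Ω → Finset (Subgroup (Perm Ω)) := fun a => (outSet C a₀ b₀ a).image (f a)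
  let 𝒲 : Ω → Finset (Subgroup (Perm Ω)) := fun b => (inSet C a₀ b₀ b).image fun a => f a b
  have h𝒰 : ∀ g ∈ C.H, ∀ a, 𝒰 (g a) = (𝒰 a).image (cj g) := by
    intro g hg a
    simp only [𝒰, outSet_smul C hg, Finset.image_image]
    exact Finset.image_congr fun b _ => hf g hg a b
  have h𝒲 : ∀ g ∈ C.H, ∀ a, 𝒲 (g a) = (𝒲 a).image (cj g) := by
    intro g hg b
    simp only [𝒲, inSet_smul C hg, Finset.image_image]
    exact Finset.image_congr fun a _ => hf g hg a b
  have hfib : ∀ a b, arc C a₀ b₀ a b →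
      3 ≤ ((outSet C a₀ b₀ a).filter fun c => f a c = f a b).card := by
    intro a b hab
    have hinv : ∀ x ∈ C.P a, ∀ c ∈ outSet C a₀ b₀ a, x c ∈ outSet C a₀ b₀ a := fun x hx c hc =>
      outSet_invariant C a₀ b₀ a (P_le_stab C a hx) hc
    have h3 := card_pOrbit_three C (arc_ne hne hab).symm (hout a ▸ hd) ((mem_outSet C).mpr hab) hinv
    rw [← h3]
    refine Finset.card_le_card fun c hc => ?_
    rw [Finset.mem_filter]
    exact ⟨pOrbit_subset C ((mem_outSet C).mpr hab) hinv hc, inf_eq_of_mem_pOrbit C h3 hc⟩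
  have hfib' : ∀ a b, arc C a₀ b₀ a b →
      3 ≤ ((inSet C a₀ b₀ b).filter fun c => f c b = f a b).card := by
    intro a b hab
    have hinv : ∀ x ∈ C.P b, ∀ c ∈ inSet C a₀ b₀ b, x c ∈ inSet C a₀ b₀ b := fun x hx c hc =>
      inSet_invariant C a₀ b₀ b (P_le_stab C b hx) hc
    have h3 := card_pOrbit_three C (arc_ne hne hab) (hin b ▸ hd) ((mem_inSet C).mpr hab) hinv
    rw [← h3]
    refine Finset.card_le_card fun c hc => ?_
    rw [Finset.mem_filter]
    refine ⟨pOrbit_subset C ((mem_inSet C).mpr hab) hinv hc, ?_⟩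
    show C.P c ⊓ C.P b = C.P a ⊓ C.P b
    rw [inf_comm, inf_eq_of_mem_pOrbit C h3 hc, inf_comm]
  set u := (𝒰 a₀).card with hu
  set w := (𝒲 a₀).card with hw
  have hcU : ∀ a, (𝒰 a).card ≤ u ∧ u ≤ (𝒰 a).card := by
    intro a
    obtain ⟨g, hg, rfl⟩ := C.trans a₀ a
    rw [h𝒰 g hg, Finset.card_image_of_injective _ (cj_injective g)]
    exact ⟨le_rfl, le_rfl⟩
  have hcW : ∀ a, (𝒲 a).card = w := by
    intro a
    obtain ⟨g, hg, rfl⟩ := C.trans a₀ a
    rw [h𝒲 g hg, Finset.card_image_of_injective _ (cj_injective g)]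
  have hu3 : 3 * u ≤ d := by
    rw [← hout a₀, Finset.card_eq_sum_card_image (f a₀) (outSet C a₀ b₀ a₀), mul_comm, ← smul_eq_mul]
    refine Finset.card_nsmul_le_sum _ _ _ fun D hD => ?_
    obtain ⟨b, hb, rfl⟩ := Finset.mem_image.mp hD
    exact hfib a₀ b ((mem_outSet C).mp hb)
  have hw3 : 3 * w ≤ d := by
    rw [← hin a₀, Finset.card_eq_sum_card_image (fun a => f a a₀) (inSet C a₀ b₀ a₀), mul_comm,
      ← smul_eq_mul]
    refine Finset.card_nsmul_le_sum _ _ _ fun D hD => ?_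
    obtain ⟨b, hb, rfl⟩ := Finset.mem_image.mp hD
    exact hfib' b a₀ ((mem_inSet C).mp hb)
  -- the set of all pointwise stabilisers of arcs
  set D₀ := f a₀ b₀ with hD₀
  obtain ⟨𝒦, h𝒦⟩ : ∃ 𝒦 : Finset (Subgroup (Perm Ω)), ∀ D, D ∈ 𝒦 ↔ ∃ a, D ∈ 𝒰 a :=
    ⟨Finset.univ.biUnion 𝒰, fun D => by simp⟩
  have hmem𝒦 : ∀ D, D ∈ 𝒦 → ∃ g ∈ C.H, cj g D₀ = D := by
    intro D hD
    obtain ⟨a, hD⟩ := (h𝒦 D).mp hD
    obtain ⟨b, hb, rfl⟩ := Finset.mem_image.mp hD
    obtain ⟨g, hg, rfl, rfl⟩ := (mem_outSet C).mp hb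
    exact ⟨g, hg, (hf g hg a₀ b₀).symm⟩
  have hD₀mem : D₀ ∈ 𝒦 := (h𝒦 _).mpr ⟨a₀,
    Finset.mem_image_of_mem _ ((mem_outSet C).mpr (arc_refl a₀ b₀))⟩
  have hstable : ∀ g ∈ C.H, ∀ D ∈ 𝒦, cj g D ∈ 𝒦 := by
    intro g hg D hD
    obtain ⟨a, hD⟩ := (h𝒦 D).mp hD
    refine (h𝒦 _).mpr ⟨g a, ?_⟩
    rw [h𝒰 g hg]
    exact Finset.mem_image_of_mem _ hD
  letI : MulAction C.H 𝒦 :=
    { smul := fun g D => ⟨cj (g : Perm Ω) D, hstable g g.2 D D.2⟩
      one_smul := fun D => Subtype.ext (cj_one _)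
      mul_smul := fun g h D => Subtype.ext (cj_mul _ _ _) }
  have hsmul : ∀ (g : C.H) (D : 𝒦), ((g • D : 𝒦) : Subgroup (Perm Ω)) = cj (g : Perm Ω) D := fun _ _ => rfl
  haveI : IsPretransitive C.H 𝒦 := ⟨fun x y => by
    obtain ⟨g, hg, hgx⟩ := hmem𝒦 x x.2
    obtain ⟨k, hk, hky⟩ := hmem𝒦 y y.2
    refine ⟨⟨k * g⁻¹, C.H.mul_mem hk (C.H.inv_mem hg)⟩, Subtype.ext ?_⟩
    rw [hsmul]
    show cj (k * g⁻¹) (x : Subgroup (Perm Ω)) = y
    rw [cj_mul, ← hgx, ← cj_mul g⁻¹ g, inv_mul_cancel, cj_one, hky]⟩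
  obtain ⟨φ, hφ⟩ : ∃ φ : C.H →* Perm 𝒦,
      (∀ (g : C.H) (D : 𝒦), ((φ g D : 𝒦) : Subgroup (Perm Ω)) = cj (g : Perm Ω) D) ∧
        ∀ (g : C.H) (D : 𝒦), φ g D = g • D :=
    ⟨MulAction.toPermHom C.H 𝒦, fun g D => hsmul g D, fun g D => rfl⟩
  have hker : Function.Injective φ := by
    rw [← MonoidHom.ker_eq_bot_iff]
    by_contra hk
    have hk' : φ.ker.map C.H.subtype ≠ ⊥ := fun h =>
      hk ((Subgroup.map_eq_bot_iff_of_injective _ C.H.subtype_injective).mp h)
    have ht := transitive_normal C (Subgroup.map_subtype_le φ.ker) (by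
      rintro g hg _ ⟨x, hx, rfl⟩
      exact ⟨⟨g, hg⟩ * x * ⟨g, hg⟩⁻¹, φ.normal_ker.conj_mem x hx _, rfl⟩) hk'
    refine hD (eq_bot_of_fixed C (a := a₀) (fun x hx => C.fix_self a₀ x hx.1) fun b => ?_)
    obtain ⟨_, ⟨g, hg, rfl⟩, hgb⟩ := ht a₀ b
    refine ⟨_, hgb, fun x hx => ?_⟩
    have h := congrArg (fun s : Perm 𝒦 => ((s ⟨D₀, hD₀mem⟩ : 𝒦) : Subgroup (Perm Ω)))
      (show φ g⁻¹ = 1 from φ.ker.inv_mem hg)
    simp only [hφ.1, Perm.one_apply] at h
    have h' : cj ((g⁻¹ : C.H) : Perm Ω) D₀ = D₀ := h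
    have hx' : (g⁻¹ : C.H) * x * ((g⁻¹ : C.H) : Perm Ω)⁻¹ ∈ cj ((g⁻¹ : C.H) : Perm Ω) D₀ := ⟨x, hx, rfl⟩
    rw [h'] at hx'
    rw [InvMemClass.coe_inv, inv_inv] at hx'
    exact hx'
  have hK11 : 11 ≤ 𝒦.card := by
    have h1 : Nat.card C.H ∣ Nat.card (Perm 𝒦) := Subgroup.card_dvd_of_injective φ hker
    rw [Nat.card_perm, Nat.card_eq_finsetCard] at h1
    exact (Nat.Prime.dvd_factorial (by norm_num)).mp
      ((Dvd.intro (2 * Nat.card (stab C a₀)) (by rw [card_H C a₀]; ring)).trans h1)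
  -- the points into which an element of `𝒦` leads
  let J : Subgroup (Perm Ω) → Finset Ω := fun D => Finset.univ.filter fun b => D ∈ 𝒲 b
  have hJ : ∀ D ∈ 𝒦, (J D).card = (J D₀).card := by
    intro D hD
    obtain ⟨g, hg, rfl⟩ := hmem𝒦 D hD
    have : J (cj g D₀) = (J D₀).image g := by
      ext b
      simp only [J, Finset.mem_filter, Finset.mem_univ, true_and, Finset.mem_image]
      constructor
      · intro h
        refine ⟨g⁻¹ b, ?_, by simp⟩
        rw [h𝒲 g⁻¹ (C.H.inv_mem hg), Finset.mem_image]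
        exact ⟨_, h, by rw [← cj_mul, inv_mul_cancel, cj_one]⟩
      · rintro ⟨c, hc, rfl⟩
        rw [h𝒲 g hg]
        exact Finset.mem_image_of_mem _ hc
    rw [this, Finset.card_image_of_injective _ g.injective]
  have hcount : 𝒦.card * (J D₀).card = 22 * w := by
    have h := Finset.sum_card_bipartiteAbove_eq_sum_card_bipartiteBelow
      (s := 𝒦) (t := (Finset.univ : Finset Ω)) (fun D b => D ∈ 𝒲 b)
    have e1 : ∀ D ∈ 𝒦, (Finset.bipartiteAbove (fun D b => D ∈ 𝒲 b) Finset.univ D).card = (J D₀).card :=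
      fun D hD => by rw [← hJ D hD]; rfl
    have e2 : ∀ b ∈ (Finset.univ : Finset Ω),
        (Finset.bipartiteBelow (fun D b => D ∈ 𝒲 b) 𝒦 b).card = w := by
      intro b _
      rw [← hcW b]
      refine congrArg Finset.card (Finset.ext fun D => ?_)
      rw [Finset.mem_bipartiteBelow]
      refine ⟨fun h => h.2, fun h => ⟨?_, h⟩⟩
      obtain ⟨a, ha, rfl⟩ := Finset.mem_image.mp h
      exact (h𝒦 _).mpr ⟨a,
        Finset.mem_image_of_mem _ ((mem_outSet C).mpr ((mem_inSet C).mp ha))⟩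
    rw [Finset.sum_congr rfl e1, Finset.sum_congr rfl e2, Finset.sum_const, Finset.sum_const,
      card_univ' C, smul_eq_mul, smul_eq_mul] at h
    exact h
  have hJ3 : 3 ≤ (J D₀).card := by
    refine (hfib a₀ b₀ (arc_refl a₀ b₀)).trans (Finset.card_le_card fun c hc => ?_)
    rw [Finset.mem_filter] at hc
    simp only [J, Finset.mem_filter, Finset.mem_univ, true_and]
    exact Finset.mem_image.mpr ⟨a₀, (mem_inSet C).mpr ((mem_outSet C).mp hc.1), hc.2⟩
  have hu1 : 1 ≤ u := Finset.card_pos.mpr ⟨D₀, Finset.mem_image_of_mem _ ((mem_outSet C).mpr (arc_refl a₀ b₀))⟩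
  have hw2 : w ≤ 2 := by omega
  have hu2 : u = 2 := by
    by_contra hne2
    have hu1' : u = 1 := by omega
    obtain ⟨D, hD'⟩ := Finset.card_eq_one.mp hu1'
    have hsub : d ≤ (J D₀).card := by
      rw [← hout a₀]
      refine Finset.card_le_card fun c hc => ?_
      have h1 : f a₀ c = D := Finset.mem_singleton.mp (hD' ▸ Finset.mem_image_of_mem (f a₀) hc)
      have h2 : D₀ = D := Finset.mem_singleton.mp
        (hD' ▸ Finset.mem_image_of_mem (f a₀) ((mem_outSet C).mpr (arc_refl a₀ b₀)))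
      simp only [J, Finset.mem_filter, Finset.mem_univ, true_and]
      exact Finset.mem_image.mpr ⟨a₀, (mem_inSet C).mpr ((mem_outSet C).mp hc), h1.trans h2.symm⟩
    have := Nat.mul_le_mul hK11 hsub
    omega
  have hK : 𝒦.card = 11 := by
    have h1 := Nat.mul_le_mul hK11 (le_refl (J D₀).card)
    have hle : (J D₀).card ≤ 4 := by omega
    have hw' : w = 2 := by omega
    rcases (show (J D₀).card = 3 ∨ (J D₀).card = 4 by omega) with h | h <;> rw [h] at hcount <;> omega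
  -- a transitive group of prime degree
  set G := φ.range
  haveI : IsPretransitive G 𝒦 := ⟨fun x y => by
    obtain ⟨g, hg⟩ := exists_smul_eq C.H x y
    exact ⟨⟨φ g, g, rfl⟩, (hφ.2 g x).trans hg⟩⟩
  rcases Cfsg.Agent.PrimeDegree.two_transitive_or_affine (p := 11)
      (show Fintype.card 𝒦 = 11 by rw [Fintype.card_coe, hK]) G with h2t | ⟨e, he⟩
  · -- all pairs would occur among the 22 sets `𝒰 a`
    obtain ⟨X, Y, hXY, hU⟩ := Finset.card_eq_two.mp hu2
    have hsub : 𝒦.powersetCard 2 ⊆ Finset.univ.image 𝒰 := by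
      intro s hs
      rw [Finset.mem_powersetCard] at hs
      obtain ⟨A, B, hAB, rfl⟩ := Finset.card_eq_two.mp hs.2
      have hA : A ∈ 𝒦 := hs.1 (Finset.mem_insert_self _ _)
      have hB : B ∈ 𝒦 := hs.1 (Finset.mem_insert_of_mem (Finset.mem_singleton_self _))
      have hX : X ∈ 𝒦 := (h𝒦 X).mpr ⟨a₀, hU ▸ Finset.mem_insert_self _ _⟩
      have hY : Y ∈ 𝒦 := (h𝒦 Y).mpr
        ⟨a₀, hU ▸ Finset.mem_insert_of_mem (Finset.mem_singleton_self _)⟩
      have h2t' : ∀ {a b c d : 𝒦}, a ≠ b → c ≠ d → ∃ g : G, g • a = c ∧ g • b = d :=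
        is_two_pretransitive_iff.mp h2t
      obtain ⟨⟨_, g, rfl⟩, h1, h2⟩ := @h2t' (⟨X, hX⟩ : 𝒦) ⟨Y, hY⟩ ⟨A, hA⟩ ⟨B, hB⟩
        (fun h => hXY (congrArg Subtype.val h)) (fun h => hAB (congrArg Subtype.val h))
      have h1' : cj (g : Perm Ω) X = A := (hφ.1 g ⟨X, hX⟩).symm.trans (congrArg Subtype.val h1)
      have h2' : cj (g : Perm Ω) Y = B := (hφ.1 g ⟨Y, hY⟩).symm.trans (congrArg Subtype.val h2)
      refine Finset.mem_image.mpr ⟨(g : Perm Ω) a₀, Finset.mem_univ _, ?_⟩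
      rw [h𝒰 g g.2, hU, Finset.image_insert, Finset.image_singleton, h1', h2']
    have := (Finset.card_le_card hsub).trans Finset.card_image_le
    rw [Finset.card_powersetCard, hK, card_univ' C] at this
    exact absurd this (by decide)
  · -- an element of order three would be a translation
    obtain ⟨k, hk⟩ := IsPGroup.iff_card.mp (C.pgroup a₀)
    have h3 : 3 ∣ Nat.card (C.P a₀) := by
      rw [hk]
      refine dvd_pow_self 3 ?_
      rintro rfl
      rw [pow_zero] at hk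
      exact P_ne_bot C a₀ (Subgroup.card_eq_one.mp hk)
    obtain ⟨⟨x, hx⟩, hxo⟩ := exists_prime_orderOf_dvd_card' 3 h3
    rw [Subgroup.orderOf_mk] at hxo
    set g := φ ⟨x, C.le a₀ hx⟩ with hg
    have hg3 : g ^ 3 = 1 := by
      rw [hg, ← map_pow]
      convert map_one φ
      exact Subtype.ext (by simpa [← hxo] using pow_orderOf_eq_one x)
    set s := e.symm (g (e 1)) - e.symm (g (e 0))
    set t := e.symm (g (e 0))
    have hst : ∀ i, g (e i) = e (s * i + t) := fun i => by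
      rw [← he g ⟨_, rfl⟩ i, Equiv.apply_symm_apply]
    have h3i : ∀ i, s * (s * (s * i + t) + t) + t = i := by
      intro i
      apply e.injective
      rw [← hst, ← hst, ← hst]
      exact congrArg (fun σ : Perm 𝒦 => σ (e i)) hg3
    have hs1 : s = 1 := by
      have h0 := h3i 0
      have h1 := h3i 1
      have : s * s * s = 1 := by linear_combination h1 - h0
      exact eq_one_of_cube s this
    have ht0 : t = 0 := by
      have h0 := h3i 0
      rw [hs1] at h0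
      have : (3 : ZMod 11) * t = 0 := by linear_combination h0
      exact eq_zero_of_three_mul t this
    have : φ ⟨x, C.le a₀ hx⟩ = φ 1 := by
      rw [map_one]
      refine Equiv.ext fun y => ?_
      obtain ⟨i, rfl⟩ := e.surjective y
      show g (e i) = e i
      rw [hst, hs1, ht0, one_mul, add_zero]
    rw [show x = 1 from congrArg Subtype.val (hker this), orderOf_one] at hxo
    norm_num at hxo

end Cfsg.Lib.TwentyTwo
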